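import Cfsg.Agent.Lib.Coxeter.Engine

/-! Orders of elements of a Coxeter group with a checked table. -/

set_option autoImplicit false

namespace Cfsg.Agent.Lib.Coxeter

variable {n : ℕ} (M : CoxeterMatrix (Fin n))

theorem wp_pow (w : List ℕ) (d : ℕ) :
    wp M n le_rfl w ^ d = wp M n le_rfl (List.replicate d w).flatten := by
  induction d with
  | zero => simp
  | succ d ih => rw [pow_succ', ih, List.replicate_succ, List.flatten_cons, wp_append]

theorem orderOf_wp {T : Table} (hT : tableOK M T = true) {w : List ℕ} (hw : ∀ a ∈ w, a < n) {h : ℕ}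
    (h0 : 0 < h) (h1 : run T (zeros n) (List.replicate h w).flatten = zeros n)
    (h2 : ((List.range h).all fun d =>
      d == 0 || (run T (zeros n) (List.replicate d w).flatten != zeros n)) = true) :
    orderOf (wp M n le_rfl w) = h := by
  have hlt : ∀ d, ∀ a ∈ (List.replicate d w).flatten, a < n := by
    intro d a ha
    simp only [List.mem_flatten, List.mem_replicate] at ha
    obtain ⟨l, ⟨-, rfl⟩, ha⟩ := ha
    exact hw a ha
  have key : ∀ d, wp M n le_rfl w ^ d = 1 ↔
      run T (zeros n) (List.replicate d w).flatten = zeros n := by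
    intro d
    rw [wp_pow, ← wp_nil M (k := n) (hk := le_rfl), wp_eq_iff M T hT (hlt d) (by simp), run_nil]
  rw [orderOf_eq_iff h0]
  refine ⟨(key h).2 h1, fun d hd hd0 e => ?_⟩
  simp only [List.all_eq_true, List.mem_range, Bool.or_eq_true, beq_iff_eq, bne_iff_ne] at h2
  exact (h2 d hd).elim (by omega) (fun hne => hne ((key d).1 e))

/-- Order of the Coxeter element `s₁ s₂ ⋯ s_n`. -/
theorem orderOf_prod_simple {T : Table} (hT : tableOK M T = true) {h : ℕ} (h0 : 0 < h)
    (h1 : run T (zeros n) (List.replicate h (List.range n)).flatten = zeros n)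
    (h2 : ((List.range h).all fun d =>
      d == 0 || (run T (zeros n) (List.replicate d (List.range n)).flatten != zeros n)) = true) :
    orderOf ((List.finRange n).map M.simple).prod = h := by
  have e : ((List.finRange n).map (sub M n le_rfl).simple).prod =
      wp M n le_rfl (List.range n) := by
    rw [wp, ← List.map_coe_finRange_eq_range, List.map_map]
    congr 1
    apply List.map_congr_left
    intro i _
    simp [sg]
  have := orderOf_wp M hT (fun a ha => List.mem_range.1 ha) h0 h1 h2
  rw [← e] at this
  have key : ∀ N : CoxeterMatrix (Fin n), N = M →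
      orderOf ((List.finRange n).map N.simple).prod = h →
      orderOf ((List.finRange n).map M.simple).prod = h := by
    rintro N rfl hh
    exact hh
  exact key _ (sub_self M) this

end Cfsg.Agent.Lib.Coxeter
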