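import Cfsg.Agent.Lib.Coxeter.Tables

/-! Checked coset table, and the order, of the Coxeter group of type E₈. -/

set_option autoImplicit false

namespace Cfsg.Agent.Lib.Coxeter

theorem e8Table_ok : tableOK CoxeterMatrix.E₈ e8Table = true := by decide +kernel

theorem card_coxeter_E8 : Nat.card CoxeterMatrix.E₈.Group = 696729600 :=
  (card_group _ _ e8Table_ok).trans (by decide +kernel)

end Cfsg.Agent.Lib.Coxeter
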