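import Cfsg.Agent.Lib.Coxeter.Engine

/-!
Generation of a Coxeter group with a checked table: derivations of simple reflections from a few
elements, and the centraliser of all simple reflections (the centre) as a decidable list.
-/

set_option autoImplicit false

namespace Cfsg.Agent.Lib.Coxeter

variable {n k : ℕ} (M : CoxeterMatrix (Fin n)) (T : Table)

/-- The word of an atom: `0` is the Coxeter word, `1` its reverse, `a + 2` the `a`-th word so far. -/
def atomWord (n : ℕ) (ws : List (List ℕ)) : ℕ → List ℕ
  | 0 => List.range n
  | 1 => (List.range n).reverse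
  | a + 2 => ws.getD a []

/-- Check a derivation: every step is a product of atoms. -/
def derivOK (n : ℕ) : List (List ℕ) → List (List ℕ × List ℕ) → Bool
  | ws, [] => (List.range n).all fun i => ws.contains [i]
  | ws, s :: rest =>
    s.1.all (fun a => decide (a < n)) &&
      (run T (zeros n) s.1 == run T (zeros n) (s.2.map (atomWord n ws)).flatten) &&
      derivOK n (ws ++ [s.1]) rest

theorem mem_of_derivOK (hT : tableOK M T = true) (H : Subgroup (W M n le_rfl))
    (hc : wp M n le_rfl (List.range n) ∈ H) :
    ∀ (steps : List (List ℕ × List ℕ)) (ws : List (List ℕ)), (∀ w ∈ ws, ∀ a ∈ w, a < n) →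
      (∀ w ∈ ws, wp M n le_rfl w ∈ H) → derivOK T n ws steps = true →
      ∀ i < n, wp M n le_rfl [i] ∈ H := by
  intro steps
  induction steps with
  | nil =>
    intro ws _ hws h i hi
    simp only [derivOK, List.all_eq_true, List.mem_range, List.contains_iff_mem] at h
    exact hws _ (h i hi)
  | cons s rest ih =>
    intro ws hlt hws h
    simp only [derivOK, Bool.and_eq_true, List.all_eq_true, decide_eq_true_eq, beq_iff_eq] at h
    have hatom : ∀ a, (∀ x ∈ atomWord n ws a, x < n) ∧ wp M n le_rfl (atomWord n ws a) ∈ H := by
      intro a
      match a with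
      | 0 => exact ⟨fun x hx => List.mem_range.1 hx, hc⟩
      | 1 => exact ⟨fun x hx => List.mem_range.1 (List.mem_reverse.1 hx), by
          show wp M n le_rfl (List.range n).reverse ∈ H
          rw [wp_reverse]; exact inv_mem hc⟩
      | a + 2 =>
        simp only [atomWord, List.getD_eq_getElem?_getD]
        cases hg : ws[a]? with
        | none => simp
        | some w =>
          simp only [Option.getD_some]
          exact ⟨hlt w (List.mem_of_getElem? hg), hws w (List.mem_of_getElem? hg)⟩
    have hflat : ∀ x ∈ (s.2.map (atomWord n ws)).flatten, x < n := by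
      intro x hx
      simp only [List.mem_flatten, List.mem_map] at hx
      obtain ⟨_, ⟨a, _, rfl⟩, hx⟩ := hx
      exact (hatom a).1 x hx
    have hmem : ∀ l : List ℕ, wp M n le_rfl (l.map (atomWord n ws)).flatten ∈ H := by
      intro l
      induction l with
      | nil => simp
      | cons a l ihl =>
        rw [List.map_cons, List.flatten_cons, wp_append]
        exact mul_mem (hatom a).2 ihl
    have hs : wp M n le_rfl s.1 ∈ H := by
      rw [(wp_eq_iff M T hT h.1.1 hflat).2 h.1.2]
      exact hmem s.2
    refine ih _ ?_ ?_ h.2
    · intro w hw
      rcases List.mem_append.1 hw with hw | hw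
      · exact hlt w hw
      · rw [List.mem_singleton.1 hw]; exact h.1.1
    · intro w hw
      rcases List.mem_append.1 hw with hw | hw
      · exact hws w hw
      · rw [List.mem_singleton.1 hw]; exact hs

/-- The word of a normal form. -/
def stateWord : List ℕ → List ℕ
  | [] => []
  | i :: xs => stateWord xs ++ (row T xs.length i).word

variable {T}

theorem stateWord_lt (h : Below M T k) : ∀ x, Valid T x → x.length = k → ∀ a ∈ stateWord T x, a < k := by
  induction k with
  | zero => intro x _ hl; simp [List.length_eq_zero_iff.1 hl, stateWord]
  | succ k ih =>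
    intro x hv hl
    match x, hl with
    | i :: xs, hl =>
      obtain rfl : xs.length = k := by simpa using hl
      intro a ha
      rcases List.mem_append.1 ha with ha | ha
      · exact Nat.lt_succ_of_lt (ih (fun i hi => h i (by omega)) xs hv.2 rfl a ha)
      · exact (h xs.length (by omega)).word_lt i hv.1 a ha

/-- Lower letters fix coset zero and are passed down. -/
theorem run_low (h : Below M T (k + 1)) : ∀ w : List ℕ, (∀ a ∈ w, a < k) → ∀ y : List ℕ, y.length = k →
    Valid T y → run T (0 :: y) w = 0 :: run T y w := by
  intro w
  induction w with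
  | nil => intros; rfl
  | cons a w ihw =>
    intro hw y hy hy'
    have ha := hw a (by simp)
    have := (h k (by omega)).low a ha
    rw [run_cons, step_cons, hy, this.1, this.2, run_cons, run_nil,
      ihw (fun b hb => hw b (by simp [hb])) _ (by rw [step_length]; exact hy)
        (valid_step M (fun i hi => h i (by omega)) hy' (hy ▸ ha)), run_cons]

theorem run_append_word (h : Below M T (k + 1)) {i : ℕ} (hi : i < lsize T k) {y : List ℕ}
    (hy : y.length = k) :
    run T (0 :: y) (row T k i).word = i :: y := by
  rw [run_trav, hy, (h k (by omega)).reach i hi, run_nil]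

theorem run_stateWord (h : Below M T k) : ∀ x, Valid T x → x.length = k →
    run T (zeros k) (stateWord T x) = x := by
  induction k with
  | zero => intro x _ hl; simp [List.length_eq_zero_iff.1 hl, stateWord, zeros]
  | succ k ih =>
    intro x hv hl
    match x, hl with
    | i :: xs, hl =>
      obtain rfl : xs.length = k := by simpa using hl
      have h' : Below M T xs.length := fun i hi => h i (by omega)
      show run T (0 :: zeros xs.length) (stateWord T xs ++ (row T xs.length i).word) = _
      rw [run_append, run_low M h _ (stateWord_lt M h' xs hv.2 rfl) _ zeros_length (valid_zeros M h'),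
        ih h' xs hv.2 rfl, run_append_word M h hv.1 rfl]

variable (T)

/-- The condition `s_j x = x σ_j` on normal forms. -/
def twists (k : ℕ) (σ : ℕ → List ℕ) (x : List ℕ) : Bool :=
  (List.range k).all fun j => run T (zeros k) ([j] ++ stateWord T x) == run T x (σ j)

/-- The normal forms satisfying `twists`. -/
def twisters : ℕ → (ℕ → List ℕ) → List (List ℕ)
  | 0, _ => [[]]
  | k + 1, σ =>
    (((List.range (lsize T k)).filter fun i =>
      (List.range k).all fun j => (trav T k i (σ j)).1 == i).flatMap fun i =>
        (twisters k fun j => (trav T k i (σ j)).2).map (i :: ·)).filter (twists T (k + 1) σ)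

variable {T}

theorem mem_twisters : ∀ (k : ℕ), Below M T k → ∀ (σ : ℕ → List ℕ), (∀ j < k, ∀ a ∈ σ j, a < k) →
    ∀ x, Valid T x → x.length = k → twists T k σ x = true → x ∈ twisters T k σ := by
  intro k
  induction k with
  | zero => intro _ σ _ x _ hl _; simp [List.length_eq_zero_iff.1 hl, twisters]
  | succ k ih =>
    intro h σ hσ x hv hl htw
    match x, hl with
    | i :: xs, hl =>
      obtain rfl : xs.length = k := by simpa using hl
      have h' : Below M T xs.length := fun i hi => h i (by omega)
      have hlow : ∀ j < xs.length, (trav T xs.length i (σ j)).1 = i ∧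
          run T (zeros xs.length) ([j] ++ stateWord T xs) = run T xs (trav T xs.length i (σ j)).2 := by
        intro j hj
        have h1 := htw
        simp only [twists, List.all_eq_true, List.mem_range, beq_iff_eq] at h1
        have h2 := h1 j (by omega)
        have hw : ∀ a ∈ [j] ++ stateWord T xs, a < xs.length := by
          intro a ha
          rcases List.mem_append.1 ha with ha | ha
          · rw [List.mem_singleton.1 ha]; exact hj
          · exact stateWord_lt M h' xs hv.2 rfl a ha
        rw [run_trav, show stateWord T (i :: xs) = stateWord T xs ++ (row T xs.length i).word from rfl,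
          ← List.append_assoc, run_append, show zeros (xs.length + 1) = 0 :: zeros xs.length from rfl,
          run_low M h _ hw _ zeros_length (valid_zeros M h'),
          run_append_word M h hv.1 (by rw [run_length, zeros_length])] at h2
        simp only [List.cons.injEq] at h2
        exact ⟨h2.1.symm, h2.2⟩
      simp only [twisters, List.mem_filter, List.mem_flatMap, List.mem_map, List.mem_range]
      refine ⟨⟨i, ⟨hv.1, by simpa using fun j hj => (hlow j hj).1⟩, xs, ?_, rfl⟩, htw⟩
      refine ih h' _ (fun j hj => (trav_lt M (h xs.length (by omega)) _ _ hv.1 (hσ j (by omega))).2)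
        xs hv.2 rfl ?_
      simp only [twists, List.all_eq_true, List.mem_range, beq_iff_eq]
      exact fun j hj => (hlow j hj).2

/-- A central element has its normal form in `twisters` of the identity. -/
theorem central_mem (hT : tableOK M T = true) {z : W M n le_rfl}
    (hz : z ∈ Subgroup.center (W M n le_rfl)) :
    ∃ x ∈ twisters T n (fun j => [j]), z = wp M n le_rfl (stateWord T x) := by
  have B := below_of_ok M hT
  obtain ⟨ω, rfl⟩ := (sub M n le_rfl).toCoxeterSystem.wordProd_surjective z
  obtain ⟨u, hu, eu⟩ : ∃ u : List ℕ, (∀ a ∈ u, a < n) ∧
      wp M n le_rfl u = (sub M n le_rfl).toCoxeterSystem.wordProd ω := by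
    refine ⟨ω.map Fin.val, by simp, ?_⟩
    clear hz
    induction ω with
    | nil => simp
    | cons a ω ih =>
      rw [CoxeterSystem.wordProd_cons, List.map_cons, wp_cons, ih, sg, dif_pos a.2]
      rfl
  rw [← eu] at hz ⊢
  set x := run T (zeros n) u with hx
  have hv : Valid T x := valid_run M B hu (valid_zeros M B) zeros_length
  have hl : x.length = n := by rw [hx, run_length, zeros_length]
  have hsw := stateWord_lt M B x hv hl
  have e : wp M n le_rfl u = wp M n le_rfl (stateWord T x) :=
    (wp_eq_iff M T hT hu hsw).2 (run_stateWord M B x hv hl).symm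
  refine ⟨x, mem_twisters M n B _ (fun j hj a ha => (List.mem_singleton.1 ha) ▸ hj) x hv hl ?_, e⟩
  simp only [twists, List.all_eq_true, List.mem_range, beq_iff_eq]
  intro j hj
  have hlt : ∀ a ∈ stateWord T x ++ [j], a < n := by
    intro a ha
    rcases List.mem_append.1 ha with ha | ha
    · exact hsw a ha
    · exact (List.mem_singleton.1 ha) ▸ hj
  have h2 : wp M n le_rfl ([j] ++ stateWord T x) = wp M n le_rfl (stateWord T x ++ [j]) := by
    rw [wp_append, wp_append, ← e]
    exact Subgroup.mem_center_iff.1 hz _
  have h3 := (wp_eq_iff M T hT (fun a ha => hlt a (by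
    rcases List.mem_append.1 ha with h | h <;> simp [h])) hlt).1 h2
  rw [h3, run_append, run_stateWord M B x hv hl]

end Cfsg.Agent.Lib.Coxeter
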