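import Cfsg.Agent.Lib.Coxeter.Engine
import Cfsg.Prelude.Def_ChevStructure

/-! Coset tables of the exceptional Coxeter groups (generated data). -/

set_option autoImplicit false

namespace Cfsg.Agent.Lib.Coxeter

noncomputable def b2Level0 : List Row := [
  ⟨[], [⟨1,0,0,0,0⟩]⟩,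
  ⟨[0], [⟨0,0,0,0,0⟩]⟩]

noncomputable def b2Level1 : List Row := [
  ⟨[], [⟨0,1,0,0,0⟩, ⟨1,0,0,0,0⟩]⟩,
  ⟨[1], [⟨2,0,0,0,0⟩, ⟨0,0,0,0,0⟩]⟩,
  ⟨[1,0], [⟨1,0,0,0,0⟩, ⟨3,0,0,0,0⟩]⟩,
  ⟨[1,0,1], [⟨3,1,0,1,3⟩, ⟨2,0,0,0,0⟩]⟩]

/-- Coset table of `B2`. -/
noncomputable def b2Table : Table := [b2Level0, b2Level1]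

noncomputable def g2Level1 : List Row := [
  ⟨[], [⟨0,1,0,0,0⟩, ⟨1,0,0,0,0⟩]⟩,
  ⟨[1], [⟨2,0,0,0,0⟩, ⟨0,0,0,0,0⟩]⟩,
  ⟨[1,0], [⟨1,0,0,0,0⟩, ⟨3,0,0,0,0⟩]⟩,
  ⟨[1,0,1], [⟨4,0,0,0,0⟩, ⟨2,0,0,0,0⟩]⟩,
  ⟨[1,0,1,0], [⟨3,0,0,0,0⟩, ⟨5,0,0,0,0⟩]⟩,
  ⟨[1,0,1,0,1], [⟨5,1,0,1,5⟩, ⟨4,0,0,0,0⟩]⟩]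

/-- Coset table of `G2`. -/
noncomputable def g2Table : Table := [b2Level0, g2Level1]

noncomputable def d4Level1 : List Row := [
  ⟨[], [⟨0,1,0,0,0⟩, ⟨1,0,0,0,0⟩]⟩,
  ⟨[1], [⟨2,0,0,0,0⟩, ⟨0,0,0,0,0⟩]⟩,
  ⟨[1,0], [⟨1,0,0,0,0⟩, ⟨2,1,0,0,2⟩]⟩]

noncomputable def d4Level2 : List Row := [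
  ⟨[], [⟨0,1,0,0,0⟩, ⟨0,2,0,0,0⟩, ⟨1,0,0,0,0⟩]⟩,
  ⟨[2], [⟨1,1,0,2,1⟩, ⟨2,0,0,0,0⟩, ⟨0,0,0,0,0⟩]⟩,
  ⟨[2,1], [⟨3,0,0,0,0⟩, ⟨1,0,0,0,0⟩, ⟨2,2,0,1,2⟩]⟩,
  ⟨[2,1,0], [⟨2,0,0,0,0⟩, ⟨3,1,1,0,2⟩, ⟨3,2,2,0,1⟩]⟩]

noncomputable def d4Level3 : List Row := [
  ⟨[], [⟨0,1,0,0,0⟩, ⟨0,2,0,0,0⟩, ⟨0,3,0,0,0⟩, ⟨1,0,0,0,0⟩]⟩,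
  ⟨[3], [⟨1,1,0,3,1⟩, ⟨2,0,0,0,0⟩, ⟨1,3,0,3,1⟩, ⟨0,0,0,0,0⟩]⟩,
  ⟨[3,1], [⟨3,0,0,0,0⟩, ⟨1,0,0,0,0⟩, ⟨4,0,0,0,0⟩, ⟨2,2,0,1,2⟩]⟩,
  ⟨[3,1,0], [⟨2,0,0,0,0⟩, ⟨3,1,1,0,2⟩, ⟨5,0,0,0,0⟩, ⟨3,2,2,0,1⟩]⟩,
  ⟨[3,1,2], [⟨5,0,2,2,1⟩, ⟨4,3,1,2,2⟩, ⟨2,0,0,0,0⟩, ⟨4,2,2,2,1⟩]⟩,
  ⟨[3,1,0,2], [⟨4,0,2,2,2⟩, ⟨6,0,0,0,0⟩, ⟨3,0,0,0,0⟩, ⟨5,2,3,2,1⟩]⟩,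
  ⟨[3,1,0,2,1], [⟨6,3,4,1,2⟩, ⟨5,0,0,0,0⟩, ⟨6,1,3,1,2⟩, ⟨7,0,0,0,0⟩]⟩,
  ⟨[3,1,0,2,1,3], [⟨7,3,6,3,1⟩, ⟨7,2,5,3,2⟩, ⟨7,1,6,3,1⟩, ⟨6,0,0,0,0⟩]⟩]

/-- Coset table of `D4`. -/
noncomputable def d4Table : Table := [b2Level0, d4Level1, d4Level2, d4Level3]

noncomputable def f4Level2 : List Row := [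
  ⟨[], [⟨0,1,0,0,0⟩, ⟨0,2,0,0,0⟩, ⟨1,0,0,0,0⟩]⟩,
  ⟨[2], [⟨1,1,0,2,1⟩, ⟨2,0,0,0,0⟩, ⟨0,0,0,0,0⟩]⟩,
  ⟨[2,1], [⟨3,0,0,0,0⟩, ⟨1,0,0,0,0⟩, ⟨4,0,0,0,0⟩]⟩,
  ⟨[2,1,0], [⟨2,0,0,0,0⟩, ⟨3,1,1,0,2⟩, ⟨5,0,0,0,0⟩]⟩,
  ⟨[2,1,2], [⟨5,0,2,2,1⟩, ⟨4,2,0,2,3⟩, ⟨2,0,0,0,0⟩]⟩,
  ⟨[2,1,0,2], [⟨4,0,2,2,2⟩, ⟨6,0,0,0,0⟩, ⟨3,0,0,0,0⟩]⟩,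
  ⟨[2,1,0,2,1], [⟨6,2,4,1,2⟩, ⟨5,0,0,0,0⟩, ⟨7,0,0,0,0⟩]⟩,
  ⟨[2,1,0,2,1,2], [⟨7,2,6,2,1⟩, ⟨7,1,3,2,3⟩, ⟨6,0,0,0,0⟩]⟩]

noncomputable def f4Level3 : List Row := [
  ⟨[], [⟨0,1,0,0,0⟩, ⟨0,2,0,0,0⟩, ⟨0,3,0,0,0⟩, ⟨1,0,0,0,0⟩]⟩,
  ⟨[3], [⟨1,1,0,3,1⟩, ⟨1,2,0,3,1⟩, ⟨2,0,0,0,0⟩, ⟨0,0,0,0,0⟩]⟩,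
  ⟨[3,2], [⟨2,1,1,2,1⟩, ⟨3,0,0,0,0⟩, ⟨1,0,0,0,0⟩, ⟨2,3,0,2,2⟩]⟩,
  ⟨[3,2,1], [⟨4,0,0,0,0⟩, ⟨2,0,0,0,0⟩, ⟨5,0,0,0,0⟩, ⟨3,3,2,1,1⟩]⟩,
  ⟨[3,2,1,0], [⟨3,0,0,0,0⟩, ⟨4,1,2,0,2⟩, ⟨6,0,0,0,0⟩, ⟨4,3,3,0,1⟩]⟩,
  ⟨[3,2,1,2], [⟨6,0,3,2,1⟩, ⟨5,2,1,2,3⟩, ⟨3,0,0,0,0⟩, ⟨7,0,0,0,0⟩]⟩,
  ⟨[3,2,1,0,2], [⟨5,0,3,2,2⟩, ⟨8,0,0,0,0⟩, ⟨4,0,0,0,0⟩, ⟨9,0,0,0,0⟩]⟩,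
  ⟨[3,2,1,2,3], [⟨9,0,5,3,1⟩, ⟨7,2,5,3,1⟩, ⟨7,3,3,3,2⟩, ⟨5,0,0,0,0⟩]⟩,
  ⟨[3,2,1,0,2,1], [⟨8,2,5,1,2⟩, ⟨6,0,0,0,0⟩, ⟨10,0,0,0,0⟩, ⟨11,0,0,0,0⟩]⟩,
  ⟨[3,2,1,0,2,3], [⟨7,0,5,3,2⟩, ⟨11,0,6,3,1⟩, ⟨9,3,4,3,2⟩, ⟨6,0,0,0,0⟩]⟩,
  ⟨[3,2,1,0,2,1,2], [⟨10,2,8,2,1⟩, ⟨10,1,4,2,3⟩, ⟨8,0,0,0,0⟩, ⟨12,0,0,0,0⟩]⟩,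
  ⟨[3,2,1,0,2,1,3], [⟨11,2,8,3,1⟩, ⟨9,0,6,3,2⟩, ⟨13,0,0,0,0⟩, ⟨8,0,0,0,0⟩]⟩,
  ⟨[3,2,1,0,2,1,2,3], [⟨12,2,10,3,1⟩, ⟨12,1,10,3,1⟩, ⟨14,0,0,0,0⟩, ⟨10,0,0,0,0⟩]⟩,
  ⟨[3,2,1,0,2,1,3,2], [⟨13,2,11,2,1⟩, ⟨15,0,0,0,0⟩, ⟨11,0,0,0,0⟩, ⟨14,0,8,2,2⟩]⟩,
  ⟨[3,2,1,0,2,1,2,3,2], [⟨14,2,12,2,1⟩, ⟨16,0,0,0,0⟩, ⟨12,0,0,0,0⟩, ⟨13,0,8,2,3⟩]⟩,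
  ⟨[3,2,1,0,2,1,3,2,1], [⟨17,0,0,0,0⟩, ⟨13,0,0,0,0⟩, ⟨15,3,9,1,3⟩, ⟨16,0,13,1,1⟩]⟩,
  ⟨[3,2,1,0,2,1,2,3,2,1], [⟨18,0,0,0,0⟩, ⟨14,0,0,0,0⟩, ⟨19,0,0,0,0⟩, ⟨15,0,13,1,2⟩]⟩,
  ⟨[3,2,1,0,2,1,3,2,1,0], [⟨15,0,0,0,0⟩, ⟨17,2,13,0,2⟩, ⟨17,3,15,0,1⟩, ⟨18,0,15,0,1⟩]⟩,
  ⟨[3,2,1,0,2,1,2,3,2,1,0], [⟨16,0,0,0,0⟩, ⟨18,2,14,0,2⟩, ⟨20,0,0,0,0⟩, ⟨17,0,15,0,2⟩]⟩,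
  ⟨[3,2,1,0,2,1,2,3,2,1,2], [⟨20,0,16,2,1⟩, ⟨19,1,12,2,3⟩, ⟨16,0,0,0,0⟩, ⟨19,3,15,2,2⟩]⟩,
  ⟨[3,2,1,0,2,1,2,3,2,1,0,2], [⟨19,0,16,2,2⟩, ⟨21,0,0,0,0⟩, ⟨18,0,0,0,0⟩, ⟨20,3,17,2,2⟩]⟩,
  ⟨[3,2,1,0,2,1,2,3,2,1,0,2,1], [⟨21,1,19,1,2⟩, ⟨20,0,0,0,0⟩, ⟨22,0,0,0,0⟩, ⟨21,3,20,1,1⟩]⟩,
  ⟨[3,2,1,0,2,1,2,3,2,1,0,2,1,2], [⟨22,1,21,2,1⟩, ⟨22,2,18,2,3⟩, ⟨21,0,0,0,0⟩, ⟨23,0,0,0,0⟩]⟩,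
  ⟨[3,2,1,0,2,1,2,3,2,1,0,2,1,2,3], [⟨23,1,22,3,1⟩, ⟨23,2,22,3,1⟩, ⟨23,3,21,3,2⟩, ⟨22,0,0,0,0⟩]⟩]

/-- Coset table of `F4`. -/
noncomputable def f4Table : Table := [b2Level0, d4Level1, f4Level2, f4Level3]

noncomputable def e6Level1 : List Row := [
  ⟨[], [⟨0,1,0,0,0⟩, ⟨1,0,0,0,0⟩]⟩,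
  ⟨[1], [⟨1,1,0,1,1⟩, ⟨0,0,0,0,0⟩]⟩]

noncomputable def e6Level2 : List Row := [
  ⟨[], [⟨0,1,0,0,0⟩, ⟨0,2,0,0,0⟩, ⟨1,0,0,0,0⟩]⟩,
  ⟨[2], [⟨2,0,0,0,0⟩, ⟨1,2,0,2,1⟩, ⟨0,0,0,0,0⟩]⟩,
  ⟨[2,0], [⟨1,0,0,0,0⟩, ⟨2,2,1,0,1⟩, ⟨2,1,0,0,2⟩]⟩]

noncomputable def e6Level3 : List Row := [
  ⟨[], [⟨0,1,0,0,0⟩, ⟨0,2,0,0,0⟩, ⟨0,3,0,0,0⟩, ⟨1,0,0,0,0⟩]⟩,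
  ⟨[3], [⟨1,1,0,3,1⟩, ⟨2,0,0,0,0⟩, ⟨3,0,0,0,0⟩, ⟨0,0,0,0,0⟩]⟩,
  ⟨[3,1], [⟨2,1,1,1,1⟩, ⟨1,0,0,0,0⟩, ⟨4,0,0,0,0⟩, ⟨2,2,0,1,2⟩]⟩,
  ⟨[3,2], [⟨5,0,0,0,0⟩, ⟨4,0,1,2,1⟩, ⟨1,0,0,0,0⟩, ⟨3,3,0,2,2⟩]⟩,
  ⟨[3,1,2], [⟨6,0,0,0,0⟩, ⟨3,0,1,2,2⟩, ⟨2,0,0,0,0⟩, ⟨7,0,0,0,0⟩]⟩,
  ⟨[3,2,0], [⟨3,0,0,0,0⟩, ⟨6,0,3,0,1⟩, ⟨5,1,1,0,2⟩, ⟨5,3,3,0,1⟩]⟩,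
  ⟨[3,1,2,0], [⟨4,0,0,0,0⟩, ⟨5,0,3,0,2⟩, ⟨6,1,2,0,2⟩, ⟨8,0,0,0,0⟩]⟩,
  ⟨[3,1,2,3], [⟨8,0,4,3,1⟩, ⟨7,3,3,3,2⟩, ⟨7,2,2,3,2⟩, ⟨4,0,0,0,0⟩]⟩,
  ⟨[3,1,2,0,3], [⟨7,0,4,3,2⟩, ⟨8,3,5,3,2⟩, ⟨9,0,0,0,0⟩, ⟨6,0,0,0,0⟩]⟩,
  ⟨[3,1,2,0,3,2], [⟨9,2,7,2,2⟩, ⟨9,3,8,2,1⟩, ⟨8,0,0,0,0⟩, ⟨9,1,6,2,2⟩]⟩]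

noncomputable def e6Level4 : List Row := [
  ⟨[], [⟨0,1,0,0,0⟩, ⟨0,2,0,0,0⟩, ⟨0,3,0,0,0⟩, ⟨0,4,0,0,0⟩, ⟨1,0,0,0,0⟩]⟩,
  ⟨[4], [⟨1,1,0,4,1⟩, ⟨1,2,0,4,1⟩, ⟨1,3,0,4,1⟩, ⟨2,0,0,0,0⟩, ⟨0,0,0,0,0⟩]⟩,
  ⟨[4,3], [⟨2,1,1,3,1⟩, ⟨3,0,0,0,0⟩, ⟨4,0,0,0,0⟩, ⟨1,0,0,0,0⟩, ⟨2,4,0,3,2⟩]⟩,
  ⟨[4,3,1], [⟨3,1,2,1,1⟩, ⟨2,0,0,0,0⟩, ⟨5,0,0,0,0⟩, ⟨3,2,1,1,2⟩, ⟨3,4,2,1,1⟩]⟩,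
  ⟨[4,3,2], [⟨6,0,0,0,0⟩, ⟨5,0,2,2,1⟩, ⟨2,0,0,0,0⟩, ⟨4,3,1,2,2⟩, ⟨4,4,2,2,1⟩]⟩,
  ⟨[4,3,1,2], [⟨7,0,0,0,0⟩, ⟨4,0,2,2,2⟩, ⟨3,0,0,0,0⟩, ⟨8,0,0,0,0⟩, ⟨5,4,3,2,1⟩]⟩,
  ⟨[4,3,2,0], [⟨4,0,0,0,0⟩, ⟨7,0,4,0,1⟩, ⟨6,1,2,0,2⟩, ⟨6,3,4,0,1⟩, ⟨6,4,4,0,1⟩]⟩,
  ⟨[4,3,1,2,0], [⟨5,0,0,0,0⟩, ⟨6,0,4,0,2⟩, ⟨7,1,3,0,2⟩, ⟨9,0,0,0,0⟩, ⟨7,4,5,0,1⟩]⟩,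
  ⟨[4,3,1,2,3], [⟨9,0,5,3,1⟩, ⟨8,3,4,3,2⟩, ⟨8,2,3,3,2⟩, ⟨5,0,0,0,0⟩, ⟨10,0,0,0,0⟩]⟩,
  ⟨[4,3,1,2,0,3], [⟨8,0,5,3,2⟩, ⟨9,3,6,3,2⟩, ⟨11,0,0,0,0⟩, ⟨7,0,0,0,0⟩, ⟨12,0,0,0,0⟩]⟩,
  ⟨[4,3,1,2,3,4], [⟨12,0,8,4,1⟩, ⟨10,3,8,4,1⟩, ⟨10,2,8,4,1⟩, ⟨10,4,5,4,2⟩, ⟨8,0,0,0,0⟩]⟩,
  ⟨[4,3,1,2,0,3,2], [⟨11,2,8,2,2⟩, ⟨11,3,9,2,1⟩, ⟨9,0,0,0,0⟩, ⟨11,1,7,2,2⟩, ⟨13,0,0,0,0⟩]⟩,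
  ⟨[4,3,1,2,0,3,4], [⟨10,0,8,4,2⟩, ⟨12,3,9,4,1⟩, ⟨13,0,9,4,1⟩, ⟨12,4,7,4,2⟩, ⟨9,0,0,0,0⟩]⟩,
  ⟨[4,3,1,2,0,3,2,4], [⟨13,2,11,4,1⟩, ⟨13,3,11,4,1⟩, ⟨12,0,9,4,2⟩, ⟨14,0,0,0,0⟩, ⟨11,0,0,0,0⟩]⟩,
  ⟨[4,3,1,2,0,3,2,4,3], [⟨14,2,13,3,1⟩, ⟨15,0,0,0,0⟩, ⟨14,4,12,3,2⟩, ⟨13,0,0,0,0⟩, ⟨14,1,11,3,2⟩]⟩,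
  ⟨[4,3,1,2,0,3,2,4,3,1], [⟨15,2,14,1,1⟩, ⟨14,0,0,0,0⟩, ⟨15,4,14,1,1⟩, ⟨15,3,13,1,2⟩, ⟨15,1,14,1,1⟩]⟩]

noncomputable def e6Level5 : List Row := [
  ⟨[], [⟨0,1,0,0,0⟩, ⟨0,2,0,0,0⟩, ⟨0,3,0,0,0⟩, ⟨0,4,0,0,0⟩, ⟨0,5,0,0,0⟩, ⟨1,0,0,0,0⟩]⟩,
  ⟨[5], [⟨1,1,0,5,1⟩, ⟨1,2,0,5,1⟩, ⟨1,3,0,5,1⟩, ⟨1,4,0,5,1⟩, ⟨2,0,0,0,0⟩, ⟨0,0,0,0,0⟩]⟩,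
  ⟨[5,4], [⟨2,1,1,4,1⟩, ⟨2,2,1,4,1⟩, ⟨2,3,1,4,1⟩, ⟨3,0,0,0,0⟩, ⟨1,0,0,0,0⟩, ⟨2,5,0,4,2⟩]⟩,
  ⟨[5,4,3], [⟨3,1,2,3,1⟩, ⟨4,0,0,0,0⟩, ⟨5,0,0,0,0⟩, ⟨2,0,0,0,0⟩, ⟨3,4,1,3,2⟩, ⟨3,5,2,3,1⟩]⟩,
  ⟨[5,4,3,1], [⟨4,1,3,1,1⟩, ⟨3,0,0,0,0⟩, ⟨6,0,0,0,0⟩, ⟨4,2,2,1,2⟩, ⟨4,4,3,1,1⟩, ⟨4,5,3,1,1⟩]⟩,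
  ⟨[5,4,3,2], [⟨7,0,0,0,0⟩, ⟨6,0,3,2,1⟩, ⟨3,0,0,0,0⟩, ⟨5,3,2,2,2⟩, ⟨5,4,3,2,1⟩, ⟨5,5,3,2,1⟩]⟩,
  ⟨[5,4,3,1,2], [⟨8,0,0,0,0⟩, ⟨5,0,3,2,2⟩, ⟨4,0,0,0,0⟩, ⟨9,0,0,0,0⟩, ⟨6,4,4,2,1⟩, ⟨6,5,4,2,1⟩]⟩,
  ⟨[5,4,3,2,0], [⟨5,0,0,0,0⟩, ⟨8,0,5,0,1⟩, ⟨7,1,3,0,2⟩, ⟨7,3,5,0,1⟩, ⟨7,4,5,0,1⟩, ⟨7,5,5,0,1⟩]⟩,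
  ⟨[5,4,3,1,2,0], [⟨6,0,0,0,0⟩, ⟨7,0,5,0,2⟩, ⟨8,1,4,0,2⟩, ⟨10,0,0,0,0⟩, ⟨8,4,6,0,1⟩, ⟨8,5,6,0,1⟩]⟩,
  ⟨[5,4,3,1,2,3], [⟨10,0,6,3,1⟩, ⟨9,3,5,3,2⟩, ⟨9,2,4,3,2⟩, ⟨6,0,0,0,0⟩, ⟨11,0,0,0,0⟩, ⟨9,5,6,3,1⟩]⟩,
  ⟨[5,4,3,1,2,0,3], [⟨9,0,6,3,2⟩, ⟨10,3,7,3,2⟩, ⟨12,0,0,0,0⟩, ⟨8,0,0,0,0⟩, ⟨13,0,0,0,0⟩, ⟨10,5,8,3,1⟩]⟩,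
  ⟨[5,4,3,1,2,3,4], [⟨13,0,9,4,1⟩, ⟨11,3,9,4,1⟩, ⟨11,2,9,4,1⟩, ⟨11,4,6,4,2⟩, ⟨9,0,0,0,0⟩, ⟨14,0,0,0,0⟩]⟩,
  ⟨[5,4,3,1,2,0,3,2], [⟨12,2,9,2,2⟩, ⟨12,3,10,2,1⟩, ⟨10,0,0,0,0⟩, ⟨12,1,8,2,2⟩, ⟨15,0,0,0,0⟩, ⟨12,5,10,2,1⟩]⟩,
  ⟨[5,4,3,1,2,0,3,4], [⟨11,0,9,4,2⟩, ⟨13,3,10,4,1⟩, ⟨15,0,10,4,1⟩, ⟨13,4,8,4,2⟩, ⟨10,0,0,0,0⟩, ⟨16,0,0,0,0⟩]⟩,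
  ⟨[5,4,3,1,2,3,4,5], [⟨16,0,11,5,1⟩, ⟨14,3,11,5,1⟩, ⟨14,2,11,5,1⟩, ⟨14,4,11,5,1⟩, ⟨14,5,9,5,2⟩, ⟨11,0,0,0,0⟩]⟩,
  ⟨[5,4,3,1,2,0,3,2,4], [⟨15,2,12,4,1⟩, ⟨15,3,12,4,1⟩, ⟨13,0,10,4,2⟩, ⟨17,0,0,0,0⟩, ⟨12,0,0,0,0⟩, ⟨18,0,0,0,0⟩]⟩,
  ⟨[5,4,3,1,2,0,3,4,5], [⟨14,0,11,5,2⟩, ⟨16,3,13,5,1⟩, ⟨18,0,13,5,1⟩, ⟨16,4,13,5,1⟩, ⟨16,5,10,5,2⟩, ⟨13,0,0,0,0⟩]⟩,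
  ⟨[5,4,3,1,2,0,3,2,4,3], [⟨17,2,15,3,1⟩, ⟨19,0,0,0,0⟩, ⟨17,4,13,3,2⟩, ⟨15,0,0,0,0⟩, ⟨17,1,12,3,2⟩, ⟨20,0,0,0,0⟩]⟩,
  ⟨[5,4,3,1,2,0,3,2,4,5], [⟨18,2,15,5,1⟩, ⟨18,3,15,5,1⟩, ⟨16,0,13,5,2⟩, ⟨20,0,15,5,1⟩, ⟨18,5,12,5,2⟩, ⟨15,0,0,0,0⟩]⟩,
  ⟨[5,4,3,1,2,0,3,2,4,3,1], [⟨19,2,17,1,1⟩, ⟨17,0,0,0,0⟩, ⟨19,4,17,1,1⟩, ⟨19,3,15,1,2⟩, ⟨19,1,17,1,1⟩, ⟨21,0,0,0,0⟩]⟩,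
  ⟨[5,4,3,1,2,0,3,2,4,3,5], [⟨20,2,17,5,1⟩, ⟨21,0,17,5,1⟩, ⟨20,4,17,5,1⟩, ⟨18,0,15,5,2⟩, ⟨22,0,0,0,0⟩, ⟨17,0,0,0,0⟩]⟩,
  ⟨[5,4,3,1,2,0,3,2,4,3,1,5], [⟨21,2,19,5,1⟩, ⟨20,0,17,5,2⟩, ⟨21,4,19,5,1⟩, ⟨21,3,19,5,1⟩, ⟨23,0,0,0,0⟩, ⟨19,0,0,0,0⟩]⟩,
  ⟨[5,4,3,1,2,0,3,2,4,3,5,4], [⟨22,2,20,4,1⟩, ⟨23,0,20,4,1⟩, ⟨22,4,20,4,1⟩, ⟨22,5,18,4,2⟩, ⟨20,0,0,0,0⟩, ⟨22,1,17,4,2⟩]⟩,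
  ⟨[5,4,3,1,2,0,3,2,4,3,1,5,4], [⟨23,2,21,4,1⟩, ⟨22,0,20,4,2⟩, ⟨23,4,21,4,1⟩, ⟨24,0,0,0,0⟩, ⟨21,0,0,0,0⟩, ⟨23,1,19,4,2⟩]⟩,
  ⟨[5,4,3,1,2,0,3,2,4,3,1,5,4,3], [⟨24,2,23,3,1⟩, ⟨24,5,22,3,2⟩, ⟨25,0,0,0,0⟩, ⟨23,0,0,0,0⟩, ⟨24,3,21,3,2⟩, ⟨24,1,23,3,1⟩]⟩,
  ⟨[5,4,3,1,2,0,3,2,4,3,1,5,4,3,2], [⟨26,0,0,0,0⟩, ⟨25,5,24,2,1⟩, ⟨24,0,0,0,0⟩, ⟨25,4,23,2,2⟩, ⟨25,3,24,2,1⟩, ⟨25,1,24,2,1⟩]⟩,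
  ⟨[5,4,3,1,2,0,3,2,4,3,1,5,4,3,2,0], [⟨25,0,0,0,0⟩, ⟨26,5,25,0,1⟩, ⟨26,2,24,0,2⟩, ⟨26,4,25,0,1⟩, ⟨26,3,25,0,1⟩, ⟨26,1,25,0,1⟩]⟩]

/-- Coset table of `E6`. -/
noncomputable def e6Table : Table := [b2Level0, e6Level1, e6Level2, e6Level3, e6Level4, e6Level5]

noncomputable def e7Level6 : List Row := [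
  ⟨[], [⟨0,1,0,0,0⟩, ⟨0,2,0,0,0⟩, ⟨0,3,0,0,0⟩, ⟨0,4,0,0,0⟩, ⟨0,5,0,0,0⟩, ⟨0,6,0,0,0⟩, ⟨1,0,0,0,0⟩]⟩,
  ⟨[6], [⟨1,1,0,6,1⟩, ⟨1,2,0,6,1⟩, ⟨1,3,0,6,1⟩, ⟨1,4,0,6,1⟩, ⟨1,5,0,6,1⟩, ⟨2,0,0,0,0⟩, ⟨0,0,0,0,0⟩]⟩,
  ⟨[6,5], [⟨2,1,1,5,1⟩, ⟨2,2,1,5,1⟩, ⟨2,3,1,5,1⟩, ⟨2,4,1,5,1⟩, ⟨3,0,0,0,0⟩, ⟨1,0,0,0,0⟩, ⟨2,6,0,5,2⟩]⟩,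
  ⟨[6,5,4], [⟨3,1,2,4,1⟩, ⟨3,2,2,4,1⟩, ⟨3,3,2,4,1⟩, ⟨4,0,0,0,0⟩, ⟨2,0,0,0,0⟩, ⟨3,5,1,4,2⟩, ⟨3,6,2,4,1⟩]⟩,
  ⟨[6,5,4,3], [⟨4,1,3,3,1⟩, ⟨5,0,0,0,0⟩, ⟨6,0,0,0,0⟩, ⟨3,0,0,0,0⟩, ⟨4,4,2,3,2⟩, ⟨4,5,3,3,1⟩, ⟨4,6,3,3,1⟩]⟩,
  ⟨[6,5,4,3,1], [⟨5,1,4,1,1⟩, ⟨4,0,0,0,0⟩, ⟨7,0,0,0,0⟩, ⟨5,2,3,1,2⟩, ⟨5,4,4,1,1⟩, ⟨5,5,4,1,1⟩, ⟨5,6,4,1,1⟩]⟩,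
  ⟨[6,5,4,3,2], [⟨8,0,0,0,0⟩, ⟨7,0,4,2,1⟩, ⟨4,0,0,0,0⟩, ⟨6,3,3,2,2⟩, ⟨6,4,4,2,1⟩, ⟨6,5,4,2,1⟩, ⟨6,6,4,2,1⟩]⟩,
  ⟨[6,5,4,3,1,2], [⟨9,0,0,0,0⟩, ⟨6,0,4,2,2⟩, ⟨5,0,0,0,0⟩, ⟨10,0,0,0,0⟩, ⟨7,4,5,2,1⟩, ⟨7,5,5,2,1⟩, ⟨7,6,5,2,1⟩]⟩,
  ⟨[6,5,4,3,2,0], [⟨6,0,0,0,0⟩, ⟨9,0,6,0,1⟩, ⟨8,1,4,0,2⟩, ⟨8,3,6,0,1⟩, ⟨8,4,6,0,1⟩, ⟨8,5,6,0,1⟩, ⟨8,6,6,0,1⟩]⟩,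
  ⟨[6,5,4,3,1,2,0], [⟨7,0,0,0,0⟩, ⟨8,0,6,0,2⟩, ⟨9,1,5,0,2⟩, ⟨11,0,0,0,0⟩, ⟨9,4,7,0,1⟩, ⟨9,5,7,0,1⟩, ⟨9,6,7,0,1⟩]⟩,
  ⟨[6,5,4,3,1,2,3], [⟨11,0,7,3,1⟩, ⟨10,3,6,3,2⟩, ⟨10,2,5,3,2⟩, ⟨7,0,0,0,0⟩, ⟨12,0,0,0,0⟩, ⟨10,5,7,3,1⟩, ⟨10,6,7,3,1⟩]⟩,
  ⟨[6,5,4,3,1,2,0,3], [⟨10,0,7,3,2⟩, ⟨11,3,8,3,2⟩, ⟨13,0,0,0,0⟩, ⟨9,0,0,0,0⟩, ⟨14,0,0,0,0⟩, ⟨11,5,9,3,1⟩, ⟨11,6,9,3,1⟩]⟩,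
  ⟨[6,5,4,3,1,2,3,4], [⟨14,0,10,4,1⟩, ⟨12,3,10,4,1⟩, ⟨12,2,10,4,1⟩, ⟨12,4,7,4,2⟩, ⟨10,0,0,0,0⟩, ⟨15,0,0,0,0⟩, ⟨12,6,10,4,1⟩]⟩,
  ⟨[6,5,4,3,1,2,0,3,2], [⟨13,2,10,2,2⟩, ⟨13,3,11,2,1⟩, ⟨11,0,0,0,0⟩, ⟨13,1,9,2,2⟩, ⟨16,0,0,0,0⟩, ⟨13,5,11,2,1⟩, ⟨13,6,11,2,1⟩]⟩,
  ⟨[6,5,4,3,1,2,0,3,4], [⟨12,0,10,4,2⟩, ⟨14,3,11,4,1⟩, ⟨16,0,11,4,1⟩, ⟨14,4,9,4,2⟩, ⟨11,0,0,0,0⟩, ⟨17,0,0,0,0⟩, ⟨14,6,11,4,1⟩]⟩,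
  ⟨[6,5,4,3,1,2,3,4,5], [⟨17,0,12,5,1⟩, ⟨15,3,12,5,1⟩, ⟨15,2,12,5,1⟩, ⟨15,4,12,5,1⟩, ⟨15,5,10,5,2⟩, ⟨12,0,0,0,0⟩, ⟨18,0,0,0,0⟩]⟩,
  ⟨[6,5,4,3,1,2,0,3,2,4], [⟨16,2,13,4,1⟩, ⟨16,3,13,4,1⟩, ⟨14,0,11,4,2⟩, ⟨19,0,0,0,0⟩, ⟨13,0,0,0,0⟩, ⟨20,0,0,0,0⟩, ⟨16,6,13,4,1⟩]⟩,
  ⟨[6,5,4,3,1,2,0,3,4,5], [⟨15,0,12,5,2⟩, ⟨17,3,14,5,1⟩, ⟨20,0,14,5,1⟩, ⟨17,4,14,5,1⟩, ⟨17,5,11,5,2⟩, ⟨14,0,0,0,0⟩, ⟨21,0,0,0,0⟩]⟩,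
  ⟨[6,5,4,3,1,2,3,4,5,6], [⟨21,0,15,6,1⟩, ⟨18,3,15,6,1⟩, ⟨18,2,15,6,1⟩, ⟨18,4,15,6,1⟩, ⟨18,5,15,6,1⟩, ⟨18,6,12,6,2⟩, ⟨15,0,0,0,0⟩]⟩,
  ⟨[6,5,4,3,1,2,0,3,2,4,3], [⟨19,2,16,3,1⟩, ⟨22,0,0,0,0⟩, ⟨19,4,14,3,2⟩, ⟨16,0,0,0,0⟩, ⟨19,1,13,3,2⟩, ⟨23,0,0,0,0⟩, ⟨19,6,16,3,1⟩]⟩,
  ⟨[6,5,4,3,1,2,0,3,2,4,5], [⟨20,2,16,5,1⟩, ⟨20,3,16,5,1⟩, ⟨17,0,14,5,2⟩, ⟨23,0,16,5,1⟩, ⟨20,5,13,5,2⟩, ⟨16,0,0,0,0⟩, ⟨24,0,0,0,0⟩]⟩,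
  ⟨[6,5,4,3,1,2,0,3,4,5,6], [⟨18,0,15,6,2⟩, ⟨21,3,17,6,1⟩, ⟨24,0,17,6,1⟩, ⟨21,4,17,6,1⟩, ⟨21,5,17,6,1⟩, ⟨21,6,14,6,2⟩, ⟨17,0,0,0,0⟩]⟩,
  ⟨[6,5,4,3,1,2,0,3,2,4,3,1], [⟨22,2,19,1,1⟩, ⟨19,0,0,0,0⟩, ⟨22,4,19,1,1⟩, ⟨22,3,16,1,2⟩, ⟨22,1,19,1,1⟩, ⟨25,0,0,0,0⟩, ⟨22,6,19,1,1⟩]⟩,
  ⟨[6,5,4,3,1,2,0,3,2,4,3,5], [⟨23,2,19,5,1⟩, ⟨25,0,19,5,1⟩, ⟨23,4,19,5,1⟩, ⟨20,0,16,5,2⟩, ⟨26,0,0,0,0⟩, ⟨19,0,0,0,0⟩, ⟨27,0,0,0,0⟩]⟩,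
  ⟨[6,5,4,3,1,2,0,3,2,4,5,6], [⟨24,2,20,6,1⟩, ⟨24,3,20,6,1⟩, ⟨21,0,17,6,2⟩, ⟨27,0,20,6,1⟩, ⟨24,5,20,6,1⟩, ⟨24,6,16,6,2⟩, ⟨20,0,0,0,0⟩]⟩,
  ⟨[6,5,4,3,1,2,0,3,2,4,3,1,5], [⟨25,2,22,5,1⟩, ⟨23,0,19,5,2⟩, ⟨25,4,22,5,1⟩, ⟨25,3,22,5,1⟩, ⟨28,0,0,0,0⟩, ⟨22,0,0,0,0⟩, ⟨29,0,0,0,0⟩]⟩,
  ⟨[6,5,4,3,1,2,0,3,2,4,3,5,4], [⟨26,2,23,4,1⟩, ⟨28,0,23,4,1⟩, ⟨26,4,23,4,1⟩, ⟨26,5,20,4,2⟩, ⟨23,0,0,0,0⟩, ⟨26,1,19,4,2⟩, ⟨30,0,0,0,0⟩]⟩,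
  ⟨[6,5,4,3,1,2,0,3,2,4,3,5,6], [⟨27,2,23,6,1⟩, ⟨29,0,23,6,1⟩, ⟨27,4,23,6,1⟩, ⟨24,0,20,6,2⟩, ⟨30,0,23,6,1⟩, ⟨27,6,19,6,2⟩, ⟨23,0,0,0,0⟩]⟩,
  ⟨[6,5,4,3,1,2,0,3,2,4,3,1,5,4], [⟨28,2,25,4,1⟩, ⟨26,0,23,4,2⟩, ⟨28,4,25,4,1⟩, ⟨31,0,0,0,0⟩, ⟨25,0,0,0,0⟩, ⟨28,1,22,4,2⟩, ⟨32,0,0,0,0⟩]⟩,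
  ⟨[6,5,4,3,1,2,0,3,2,4,3,1,5,6], [⟨29,2,25,6,1⟩, ⟨27,0,23,6,2⟩, ⟨29,4,25,6,1⟩, ⟨29,3,25,6,1⟩, ⟨32,0,25,6,1⟩, ⟨29,6,22,6,2⟩, ⟨25,0,0,0,0⟩]⟩,
  ⟨[6,5,4,3,1,2,0,3,2,4,3,5,4,6], [⟨30,2,26,6,1⟩, ⟨32,0,26,6,1⟩, ⟨30,4,26,6,1⟩, ⟨30,5,26,6,1⟩, ⟨27,0,23,6,2⟩, ⟨33,0,0,0,0⟩, ⟨26,0,0,0,0⟩]⟩,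
  ⟨[6,5,4,3,1,2,0,3,2,4,3,1,5,4,3], [⟨31,2,28,3,1⟩, ⟨31,5,26,3,2⟩, ⟨34,0,0,0,0⟩, ⟨28,0,0,0,0⟩, ⟨31,3,25,3,2⟩, ⟨31,1,28,3,1⟩, ⟨35,0,0,0,0⟩]⟩,
  ⟨[6,5,4,3,1,2,0,3,2,4,3,1,5,4,6], [⟨32,2,28,6,1⟩, ⟨30,0,26,6,2⟩, ⟨32,4,28,6,1⟩, ⟨35,0,28,6,1⟩, ⟨29,0,25,6,2⟩, ⟨36,0,0,0,0⟩, ⟨28,0,0,0,0⟩]⟩,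
  ⟨[6,5,4,3,1,2,0,3,2,4,3,5,4,6,5], [⟨33,2,30,5,1⟩, ⟨36,0,30,5,1⟩, ⟨33,4,30,5,1⟩, ⟨33,5,30,5,1⟩, ⟨33,6,27,5,2⟩, ⟨30,0,0,0,0⟩, ⟨33,1,26,5,2⟩]⟩,
  ⟨[6,5,4,3,1,2,0,3,2,4,3,1,5,4,3,2], [⟨37,0,0,0,0⟩, ⟨34,5,31,2,1⟩, ⟨31,0,0,0,0⟩, ⟨34,4,28,2,2⟩, ⟨34,3,31,2,1⟩, ⟨34,1,31,2,1⟩, ⟨38,0,0,0,0⟩]⟩,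
  ⟨[6,5,4,3,1,2,0,3,2,4,3,1,5,4,3,6], [⟨35,2,31,6,1⟩, ⟨35,5,31,6,1⟩, ⟨38,0,31,6,1⟩, ⟨32,0,28,6,2⟩, ⟨35,3,31,6,1⟩, ⟨39,0,0,0,0⟩, ⟨31,0,0,0,0⟩]⟩,
  ⟨[6,5,4,3,1,2,0,3,2,4,3,1,5,4,6,5], [⟨36,2,32,5,1⟩, ⟨33,0,30,5,2⟩, ⟨36,4,32,5,1⟩, ⟨39,0,32,5,1⟩, ⟨36,6,29,5,2⟩, ⟨32,0,0,0,0⟩, ⟨36,1,28,5,2⟩]⟩,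
  ⟨[6,5,4,3,1,2,0,3,2,4,3,1,5,4,3,2,0], [⟨34,0,0,0,0⟩, ⟨37,5,34,0,1⟩, ⟨37,2,31,0,2⟩, ⟨37,4,34,0,1⟩, ⟨37,3,34,0,1⟩, ⟨37,1,34,0,1⟩, ⟨40,0,0,0,0⟩]⟩,
  ⟨[6,5,4,3,1,2,0,3,2,4,3,1,5,4,3,2,6], [⟨40,0,34,6,1⟩, ⟨38,5,34,6,1⟩, ⟨35,0,31,6,2⟩, ⟨38,4,34,6,1⟩, ⟨38,3,34,6,1⟩, ⟨41,0,0,0,0⟩, ⟨34,0,0,0,0⟩]⟩,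
  ⟨[6,5,4,3,1,2,0,3,2,4,3,1,5,4,3,6,5], [⟨39,2,35,5,1⟩, ⟨39,5,35,5,1⟩, ⟨41,0,35,5,1⟩, ⟨36,0,32,5,2⟩, ⟨42,0,0,0,0⟩, ⟨35,0,0,0,0⟩, ⟨39,1,31,5,2⟩]⟩,
  ⟨[6,5,4,3,1,2,0,3,2,4,3,1,5,4,3,2,0,6], [⟨38,0,34,6,2⟩, ⟨40,5,37,6,1⟩, ⟨40,2,37,6,1⟩, ⟨40,4,37,6,1⟩, ⟨40,3,37,6,1⟩, ⟨43,0,0,0,0⟩, ⟨37,0,0,0,0⟩]⟩,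
  ⟨[6,5,4,3,1,2,0,3,2,4,3,1,5,4,3,2,6,5], [⟨43,0,38,5,1⟩, ⟨41,5,38,5,1⟩, ⟨39,0,35,5,2⟩, ⟨41,4,38,5,1⟩, ⟨44,0,0,0,0⟩, ⟨38,0,0,0,0⟩, ⟨41,1,34,5,2⟩]⟩,
  ⟨[6,5,4,3,1,2,0,3,2,4,3,1,5,4,3,6,5,4], [⟨42,2,39,4,1⟩, ⟨42,5,39,4,1⟩, ⟨44,0,39,4,1⟩, ⟨42,6,36,4,2⟩, ⟨39,0,0,0,0⟩, ⟨42,3,35,4,2⟩, ⟨42,1,39,4,1⟩]⟩,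
  ⟨[6,5,4,3,1,2,0,3,2,4,3,1,5,4,3,2,0,6,5], [⟨41,0,38,5,2⟩, ⟨43,5,40,5,1⟩, ⟨43,2,40,5,1⟩, ⟨43,4,40,5,1⟩, ⟨45,0,0,0,0⟩, ⟨40,0,0,0,0⟩, ⟨43,1,37,5,2⟩]⟩,
  ⟨[6,5,4,3,1,2,0,3,2,4,3,1,5,4,3,2,6,5,4], [⟨45,0,41,4,1⟩, ⟨44,5,41,4,1⟩, ⟨42,0,39,4,2⟩, ⟨46,0,0,0,0⟩, ⟨41,0,0,0,0⟩, ⟨44,3,38,4,2⟩, ⟨44,1,41,4,1⟩]⟩,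
  ⟨[6,5,4,3,1,2,0,3,2,4,3,1,5,4,3,2,0,6,5,4], [⟨44,0,41,4,2⟩, ⟨45,5,43,4,1⟩, ⟨45,2,43,4,1⟩, ⟨47,0,0,0,0⟩, ⟨43,0,0,0,0⟩, ⟨45,3,40,4,2⟩, ⟨45,1,43,4,1⟩]⟩,
  ⟨[6,5,4,3,1,2,0,3,2,4,3,1,5,4,3,2,6,5,4,3], [⟨47,0,44,3,1⟩, ⟨48,0,0,0,0⟩, ⟨46,6,42,3,2⟩, ⟨44,0,0,0,0⟩, ⟨46,4,41,3,2⟩, ⟨46,3,44,3,1⟩, ⟨46,1,44,3,1⟩]⟩,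
  ⟨[6,5,4,3,1,2,0,3,2,4,3,1,5,4,3,2,0,6,5,4,3], [⟨46,0,44,3,2⟩, ⟨49,0,0,0,0⟩, ⟨50,0,0,0,0⟩, ⟨45,0,0,0,0⟩, ⟨47,4,43,3,2⟩, ⟨47,3,45,3,1⟩, ⟨47,1,45,3,1⟩]⟩,
  ⟨[6,5,4,3,1,2,0,3,2,4,3,1,5,4,3,2,6,5,4,3,1], [⟨49,0,46,1,1⟩, ⟨46,0,0,0,0⟩, ⟨48,6,46,1,1⟩, ⟨48,5,44,1,2⟩, ⟨48,4,46,1,1⟩, ⟨48,3,46,1,1⟩, ⟨48,1,46,1,1⟩]⟩,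
  ⟨[6,5,4,3,1,2,0,3,2,4,3,1,5,4,3,2,0,6,5,4,3,1], [⟨48,0,46,1,2⟩, ⟨47,0,0,0,0⟩, ⟨51,0,0,0,0⟩, ⟨49,5,45,1,2⟩, ⟨49,4,47,1,1⟩, ⟨49,3,47,1,1⟩, ⟨49,1,47,1,1⟩]⟩,
  ⟨[6,5,4,3,1,2,0,3,2,4,3,1,5,4,3,2,0,6,5,4,3,2], [⟨50,6,46,2,2⟩, ⟨51,0,47,2,1⟩, ⟨47,0,0,0,0⟩, ⟨50,2,45,2,2⟩, ⟨50,4,47,2,1⟩, ⟨50,3,47,2,1⟩, ⟨50,1,47,2,1⟩]⟩,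
  ⟨[6,5,4,3,1,2,0,3,2,4,3,1,5,4,3,2,0,6,5,4,3,1,2], [⟨51,6,48,2,2⟩, ⟨50,0,47,2,2⟩, ⟨49,0,0,0,0⟩, ⟨52,0,0,0,0⟩, ⟨51,4,49,2,1⟩, ⟨51,3,49,2,1⟩, ⟨51,1,49,2,1⟩]⟩,
  ⟨[6,5,4,3,1,2,0,3,2,4,3,1,5,4,3,2,0,6,5,4,3,1,2,3], [⟨52,6,51,3,1⟩, ⟨52,2,50,3,2⟩, ⟨52,5,49,3,2⟩, ⟨51,0,0,0,0⟩, ⟨53,0,0,0,0⟩, ⟨52,3,51,3,1⟩, ⟨52,1,51,3,1⟩]⟩,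
  ⟨[6,5,4,3,1,2,0,3,2,4,3,1,5,4,3,2,0,6,5,4,3,1,2,3,4], [⟨53,6,52,4,1⟩, ⟨53,2,52,4,1⟩, ⟨53,5,52,4,1⟩, ⟨53,4,51,4,2⟩, ⟨52,0,0,0,0⟩, ⟨54,0,0,0,0⟩, ⟨53,1,52,4,1⟩]⟩,
  ⟨[6,5,4,3,1,2,0,3,2,4,3,1,5,4,3,2,0,6,5,4,3,1,2,3,4,5], [⟨54,6,53,5,1⟩, ⟨54,2,53,5,1⟩, ⟨54,5,53,5,1⟩, ⟨54,4,53,5,1⟩, ⟨54,3,52,5,2⟩, ⟨53,0,0,0,0⟩, ⟨55,0,0,0,0⟩]⟩,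
  ⟨[6,5,4,3,1,2,0,3,2,4,3,1,5,4,3,2,0,6,5,4,3,1,2,3,4,5,6], [⟨55,6,54,6,1⟩, ⟨55,2,54,6,1⟩, ⟨55,5,54,6,1⟩, ⟨55,4,54,6,1⟩, ⟨55,3,54,6,1⟩, ⟨55,1,53,6,2⟩, ⟨54,0,0,0,0⟩]⟩]

/-- Coset table of `E7`. -/
noncomputable def e7Table : Table := [b2Level0, e6Level1, e6Level2, e6Level3, e6Level4, e6Level5, e7Level6]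

noncomputable def e8Level7 : List Row := [
  ⟨[], [⟨0,1,0,0,0⟩, ⟨0,2,0,0,0⟩, ⟨0,3,0,0,0⟩, ⟨0,4,0,0,0⟩, ⟨0,5,0,0,0⟩, ⟨0,6,0,0,0⟩, ⟨0,7,0,0,0⟩, ⟨1,0,0,0,0⟩]⟩,
  ⟨[7], [⟨1,1,0,7,1⟩, ⟨1,2,0,7,1⟩, ⟨1,3,0,7,1⟩, ⟨1,4,0,7,1⟩, ⟨1,5,0,7,1⟩, ⟨1,6,0,7,1⟩, ⟨2,0,0,0,0⟩, ⟨0,0,0,0,0⟩]⟩,
  ⟨[7,6], [⟨2,1,1,6,1⟩, ⟨2,2,1,6,1⟩, ⟨2,3,1,6,1⟩, ⟨2,4,1,6,1⟩, ⟨2,5,1,6,1⟩, ⟨3,0,0,0,0⟩, ⟨1,0,0,0,0⟩, ⟨2,7,0,6,2⟩]⟩,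
  ⟨[7,6,5], [⟨3,1,2,5,1⟩, ⟨3,2,2,5,1⟩, ⟨3,3,2,5,1⟩, ⟨3,4,2,5,1⟩, ⟨4,0,0,0,0⟩, ⟨2,0,0,0,0⟩, ⟨3,6,1,5,2⟩, ⟨3,7,2,5,1⟩]⟩,
  ⟨[7,6,5,4], [⟨4,1,3,4,1⟩, ⟨4,2,3,4,1⟩, ⟨4,3,3,4,1⟩, ⟨5,0,0,0,0⟩, ⟨3,0,0,0,0⟩, ⟨4,5,2,4,2⟩, ⟨4,6,3,4,1⟩, ⟨4,7,3,4,1⟩]⟩,
  ⟨[7,6,5,4,3], [⟨5,1,4,3,1⟩, ⟨6,0,0,0,0⟩, ⟨7,0,0,0,0⟩, ⟨4,0,0,0,0⟩, ⟨5,4,3,3,2⟩, ⟨5,5,4,3,1⟩, ⟨5,6,4,3,1⟩, ⟨5,7,4,3,1⟩]⟩,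
  ⟨[7,6,5,4,3,1], [⟨6,1,5,1,1⟩, ⟨5,0,0,0,0⟩, ⟨8,0,0,0,0⟩, ⟨6,2,4,1,2⟩, ⟨6,4,5,1,1⟩, ⟨6,5,5,1,1⟩, ⟨6,6,5,1,1⟩, ⟨6,7,5,1,1⟩]⟩,
  ⟨[7,6,5,4,3,2], [⟨9,0,0,0,0⟩, ⟨8,0,5,2,1⟩, ⟨5,0,0,0,0⟩, ⟨7,3,4,2,2⟩, ⟨7,4,5,2,1⟩, ⟨7,5,5,2,1⟩, ⟨7,6,5,2,1⟩, ⟨7,7,5,2,1⟩]⟩,
  ⟨[7,6,5,4,3,1,2], [⟨10,0,0,0,0⟩, ⟨7,0,5,2,2⟩, ⟨6,0,0,0,0⟩, ⟨11,0,0,0,0⟩, ⟨8,4,6,2,1⟩, ⟨8,5,6,2,1⟩, ⟨8,6,6,2,1⟩, ⟨8,7,6,2,1⟩]⟩,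
  ⟨[7,6,5,4,3,2,0], [⟨7,0,0,0,0⟩, ⟨10,0,7,0,1⟩, ⟨9,1,5,0,2⟩, ⟨9,3,7,0,1⟩, ⟨9,4,7,0,1⟩, ⟨9,5,7,0,1⟩, ⟨9,6,7,0,1⟩, ⟨9,7,7,0,1⟩]⟩,
  ⟨[7,6,5,4,3,1,2,0], [⟨8,0,0,0,0⟩, ⟨9,0,7,0,2⟩, ⟨10,1,6,0,2⟩, ⟨12,0,0,0,0⟩, ⟨10,4,8,0,1⟩, ⟨10,5,8,0,1⟩, ⟨10,6,8,0,1⟩, ⟨10,7,8,0,1⟩]⟩,
  ⟨[7,6,5,4,3,1,2,3], [⟨12,0,8,3,1⟩, ⟨11,3,7,3,2⟩, ⟨11,2,6,3,2⟩, ⟨8,0,0,0,0⟩, ⟨13,0,0,0,0⟩, ⟨11,5,8,3,1⟩, ⟨11,6,8,3,1⟩, ⟨11,7,8,3,1⟩]⟩,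
  ⟨[7,6,5,4,3,1,2,0,3], [⟨11,0,8,3,2⟩, ⟨12,3,9,3,2⟩, ⟨14,0,0,0,0⟩, ⟨10,0,0,0,0⟩, ⟨15,0,0,0,0⟩, ⟨12,5,10,3,1⟩, ⟨12,6,10,3,1⟩, ⟨12,7,10,3,1⟩]⟩,
  ⟨[7,6,5,4,3,1,2,3,4], [⟨15,0,11,4,1⟩, ⟨13,3,11,4,1⟩, ⟨13,2,11,4,1⟩, ⟨13,4,8,4,2⟩, ⟨11,0,0,0,0⟩, ⟨16,0,0,0,0⟩, ⟨13,6,11,4,1⟩, ⟨13,7,11,4,1⟩]⟩,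
  ⟨[7,6,5,4,3,1,2,0,3,2], [⟨14,2,11,2,2⟩, ⟨14,3,12,2,1⟩, ⟨12,0,0,0,0⟩, ⟨14,1,10,2,2⟩, ⟨17,0,0,0,0⟩, ⟨14,5,12,2,1⟩, ⟨14,6,12,2,1⟩, ⟨14,7,12,2,1⟩]⟩,
  ⟨[7,6,5,4,3,1,2,0,3,4], [⟨13,0,11,4,2⟩, ⟨15,3,12,4,1⟩, ⟨17,0,12,4,1⟩, ⟨15,4,10,4,2⟩, ⟨12,0,0,0,0⟩, ⟨18,0,0,0,0⟩, ⟨15,6,12,4,1⟩, ⟨15,7,12,4,1⟩]⟩,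
  ⟨[7,6,5,4,3,1,2,3,4,5], [⟨18,0,13,5,1⟩, ⟨16,3,13,5,1⟩, ⟨16,2,13,5,1⟩, ⟨16,4,13,5,1⟩, ⟨16,5,11,5,2⟩, ⟨13,0,0,0,0⟩, ⟨19,0,0,0,0⟩, ⟨16,7,13,5,1⟩]⟩,
  ⟨[7,6,5,4,3,1,2,0,3,2,4], [⟨17,2,14,4,1⟩, ⟨17,3,14,4,1⟩, ⟨15,0,12,4,2⟩, ⟨20,0,0,0,0⟩, ⟨14,0,0,0,0⟩, ⟨21,0,0,0,0⟩, ⟨17,6,14,4,1⟩, ⟨17,7,14,4,1⟩]⟩,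
  ⟨[7,6,5,4,3,1,2,0,3,4,5], [⟨16,0,13,5,2⟩, ⟨18,3,15,5,1⟩, ⟨21,0,15,5,1⟩, ⟨18,4,15,5,1⟩, ⟨18,5,12,5,2⟩, ⟨15,0,0,0,0⟩, ⟨22,0,0,0,0⟩, ⟨18,7,15,5,1⟩]⟩,
  ⟨[7,6,5,4,3,1,2,3,4,5,6], [⟨22,0,16,6,1⟩, ⟨19,3,16,6,1⟩, ⟨19,2,16,6,1⟩, ⟨19,4,16,6,1⟩, ⟨19,5,16,6,1⟩, ⟨19,6,13,6,2⟩, ⟨16,0,0,0,0⟩, ⟨23,0,0,0,0⟩]⟩,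
  ⟨[7,6,5,4,3,1,2,0,3,2,4,3], [⟨20,2,17,3,1⟩, ⟨24,0,0,0,0⟩, ⟨20,4,15,3,2⟩, ⟨17,0,0,0,0⟩, ⟨20,1,14,3,2⟩, ⟨25,0,0,0,0⟩, ⟨20,6,17,3,1⟩, ⟨20,7,17,3,1⟩]⟩,
  ⟨[7,6,5,4,3,1,2,0,3,2,4,5], [⟨21,2,17,5,1⟩, ⟨21,3,17,5,1⟩, ⟨18,0,15,5,2⟩, ⟨25,0,17,5,1⟩, ⟨21,5,14,5,2⟩, ⟨17,0,0,0,0⟩, ⟨26,0,0,0,0⟩, ⟨21,7,17,5,1⟩]⟩,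
  ⟨[7,6,5,4,3,1,2,0,3,4,5,6], [⟨19,0,16,6,2⟩, ⟨22,3,18,6,1⟩, ⟨26,0,18,6,1⟩, ⟨22,4,18,6,1⟩, ⟨22,5,18,6,1⟩, ⟨22,6,15,6,2⟩, ⟨18,0,0,0,0⟩, ⟨27,0,0,0,0⟩]⟩,
  ⟨[7,6,5,4,3,1,2,3,4,5,6,7], [⟨27,0,19,7,1⟩, ⟨23,3,19,7,1⟩, ⟨23,2,19,7,1⟩, ⟨23,4,19,7,1⟩, ⟨23,5,19,7,1⟩, ⟨23,6,19,7,1⟩, ⟨23,7,16,7,2⟩, ⟨19,0,0,0,0⟩]⟩,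
  ⟨[7,6,5,4,3,1,2,0,3,2,4,3,1], [⟨24,2,20,1,1⟩, ⟨20,0,0,0,0⟩, ⟨24,4,20,1,1⟩, ⟨24,3,17,1,2⟩, ⟨24,1,20,1,1⟩, ⟨28,0,0,0,0⟩, ⟨24,6,20,1,1⟩, ⟨24,7,20,1,1⟩]⟩,
  ⟨[7,6,5,4,3,1,2,0,3,2,4,3,5], [⟨25,2,20,5,1⟩, ⟨28,0,20,5,1⟩, ⟨25,4,20,5,1⟩, ⟨21,0,17,5,2⟩, ⟨29,0,0,0,0⟩, ⟨20,0,0,0,0⟩, ⟨30,0,0,0,0⟩, ⟨25,7,20,5,1⟩]⟩,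
  ⟨[7,6,5,4,3,1,2,0,3,2,4,5,6], [⟨26,2,21,6,1⟩, ⟨26,3,21,6,1⟩, ⟨22,0,18,6,2⟩, ⟨30,0,21,6,1⟩, ⟨26,5,21,6,1⟩, ⟨26,6,17,6,2⟩, ⟨21,0,0,0,0⟩, ⟨31,0,0,0,0⟩]⟩,
  ⟨[7,6,5,4,3,1,2,0,3,4,5,6,7], [⟨23,0,19,7,2⟩, ⟨27,3,22,7,1⟩, ⟨31,0,22,7,1⟩, ⟨27,4,22,7,1⟩, ⟨27,5,22,7,1⟩, ⟨27,6,22,7,1⟩, ⟨27,7,18,7,2⟩, ⟨22,0,0,0,0⟩]⟩,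
  ⟨[7,6,5,4,3,1,2,0,3,2,4,3,1,5], [⟨28,2,24,5,1⟩, ⟨25,0,20,5,2⟩, ⟨28,4,24,5,1⟩, ⟨28,3,24,5,1⟩, ⟨32,0,0,0,0⟩, ⟨24,0,0,0,0⟩, ⟨33,0,0,0,0⟩, ⟨28,7,24,5,1⟩]⟩,
  ⟨[7,6,5,4,3,1,2,0,3,2,4,3,5,4], [⟨29,2,25,4,1⟩, ⟨32,0,25,4,1⟩, ⟨29,4,25,4,1⟩, ⟨29,5,21,4,2⟩, ⟨25,0,0,0,0⟩, ⟨29,1,20,4,2⟩, ⟨34,0,0,0,0⟩, ⟨29,7,25,4,1⟩]⟩,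
  ⟨[7,6,5,4,3,1,2,0,3,2,4,3,5,6], [⟨30,2,25,6,1⟩, ⟨33,0,25,6,1⟩, ⟨30,4,25,6,1⟩, ⟨26,0,21,6,2⟩, ⟨34,0,25,6,1⟩, ⟨30,6,20,6,2⟩, ⟨25,0,0,0,0⟩, ⟨35,0,0,0,0⟩]⟩,
  ⟨[7,6,5,4,3,1,2,0,3,2,4,5,6,7], [⟨31,2,26,7,1⟩, ⟨31,3,26,7,1⟩, ⟨27,0,22,7,2⟩, ⟨35,0,26,7,1⟩, ⟨31,5,26,7,1⟩, ⟨31,6,26,7,1⟩, ⟨31,7,21,7,2⟩, ⟨26,0,0,0,0⟩]⟩,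
  ⟨[7,6,5,4,3,1,2,0,3,2,4,3,1,5,4], [⟨32,2,28,4,1⟩, ⟨29,0,25,4,2⟩, ⟨32,4,28,4,1⟩, ⟨36,0,0,0,0⟩, ⟨28,0,0,0,0⟩, ⟨32,1,24,4,2⟩, ⟨37,0,0,0,0⟩, ⟨32,7,28,4,1⟩]⟩,
  ⟨[7,6,5,4,3,1,2,0,3,2,4,3,1,5,6], [⟨33,2,28,6,1⟩, ⟨30,0,25,6,2⟩, ⟨33,4,28,6,1⟩, ⟨33,3,28,6,1⟩, ⟨37,0,28,6,1⟩, ⟨33,6,24,6,2⟩, ⟨28,0,0,0,0⟩, ⟨38,0,0,0,0⟩]⟩,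
  ⟨[7,6,5,4,3,1,2,0,3,2,4,3,5,4,6], [⟨34,2,29,6,1⟩, ⟨37,0,29,6,1⟩, ⟨34,4,29,6,1⟩, ⟨34,5,29,6,1⟩, ⟨30,0,25,6,2⟩, ⟨39,0,0,0,0⟩, ⟨29,0,0,0,0⟩, ⟨40,0,0,0,0⟩]⟩,
  ⟨[7,6,5,4,3,1,2,0,3,2,4,3,5,6,7], [⟨35,2,30,7,1⟩, ⟨38,0,30,7,1⟩, ⟨35,4,30,7,1⟩, ⟨31,0,26,7,2⟩, ⟨40,0,30,7,1⟩, ⟨35,6,30,7,1⟩, ⟨35,7,25,7,2⟩, ⟨30,0,0,0,0⟩]⟩,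
  ⟨[7,6,5,4,3,1,2,0,3,2,4,3,1,5,4,3], [⟨36,2,32,3,1⟩, ⟨36,5,29,3,2⟩, ⟨41,0,0,0,0⟩, ⟨32,0,0,0,0⟩, ⟨36,3,28,3,2⟩, ⟨36,1,32,3,1⟩, ⟨42,0,0,0,0⟩, ⟨36,7,32,3,1⟩]⟩,
  ⟨[7,6,5,4,3,1,2,0,3,2,4,3,1,5,4,6], [⟨37,2,32,6,1⟩, ⟨34,0,29,6,2⟩, ⟨37,4,32,6,1⟩, ⟨42,0,32,6,1⟩, ⟨33,0,28,6,2⟩, ⟨43,0,0,0,0⟩, ⟨32,0,0,0,0⟩, ⟨44,0,0,0,0⟩]⟩,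
  ⟨[7,6,5,4,3,1,2,0,3,2,4,3,1,5,6,7], [⟨38,2,33,7,1⟩, ⟨35,0,30,7,2⟩, ⟨38,4,33,7,1⟩, ⟨38,3,33,7,1⟩, ⟨44,0,33,7,1⟩, ⟨38,6,33,7,1⟩, ⟨38,7,28,7,2⟩, ⟨33,0,0,0,0⟩]⟩,
  ⟨[7,6,5,4,3,1,2,0,3,2,4,3,5,4,6,5], [⟨39,2,34,5,1⟩, ⟨43,0,34,5,1⟩, ⟨39,4,34,5,1⟩, ⟨39,5,34,5,1⟩, ⟨39,6,30,5,2⟩, ⟨34,0,0,0,0⟩, ⟨39,1,29,5,2⟩, ⟨45,0,0,0,0⟩]⟩,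
  ⟨[7,6,5,4,3,1,2,0,3,2,4,3,5,4,6,7], [⟨40,2,34,7,1⟩, ⟨44,0,34,7,1⟩, ⟨40,4,34,7,1⟩, ⟨40,5,34,7,1⟩, ⟨35,0,30,7,2⟩, ⟨45,0,34,7,1⟩, ⟨40,7,29,7,2⟩, ⟨34,0,0,0,0⟩]⟩,
  ⟨[7,6,5,4,3,1,2,0,3,2,4,3,1,5,4,3,2], [⟨46,0,0,0,0⟩, ⟨41,5,36,2,1⟩, ⟨36,0,0,0,0⟩, ⟨41,4,32,2,2⟩, ⟨41,3,36,2,1⟩, ⟨41,1,36,2,1⟩, ⟨47,0,0,0,0⟩, ⟨41,7,36,2,1⟩]⟩,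
  ⟨[7,6,5,4,3,1,2,0,3,2,4,3,1,5,4,3,6], [⟨42,2,36,6,1⟩, ⟨42,5,36,6,1⟩, ⟨47,0,36,6,1⟩, ⟨37,0,32,6,2⟩, ⟨42,3,36,6,1⟩, ⟨48,0,0,0,0⟩, ⟨36,0,0,0,0⟩, ⟨49,0,0,0,0⟩]⟩,
  ⟨[7,6,5,4,3,1,2,0,3,2,4,3,1,5,4,6,5], [⟨43,2,37,5,1⟩, ⟨39,0,34,5,2⟩, ⟨43,4,37,5,1⟩, ⟨48,0,37,5,1⟩, ⟨43,6,33,5,2⟩, ⟨37,0,0,0,0⟩, ⟨43,1,32,5,2⟩, ⟨50,0,0,0,0⟩]⟩,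
  ⟨[7,6,5,4,3,1,2,0,3,2,4,3,1,5,4,6,7], [⟨44,2,37,7,1⟩, ⟨40,0,34,7,2⟩, ⟨44,4,37,7,1⟩, ⟨49,0,37,7,1⟩, ⟨38,0,33,7,2⟩, ⟨50,0,37,7,1⟩, ⟨44,7,32,7,2⟩, ⟨37,0,0,0,0⟩]⟩,
  ⟨[7,6,5,4,3,1,2,0,3,2,4,3,5,4,6,5,7], [⟨45,2,39,7,1⟩, ⟨50,0,39,7,1⟩, ⟨45,4,39,7,1⟩, ⟨45,5,39,7,1⟩, ⟨45,6,39,7,1⟩, ⟨40,0,34,7,2⟩, ⟨51,0,0,0,0⟩, ⟨39,0,0,0,0⟩]⟩,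
  ⟨[7,6,5,4,3,1,2,0,3,2,4,3,1,5,4,3,2,0], [⟨41,0,0,0,0⟩, ⟨46,5,41,0,1⟩, ⟨46,2,36,0,2⟩, ⟨46,4,41,0,1⟩, ⟨46,3,41,0,1⟩, ⟨46,1,41,0,1⟩, ⟨52,0,0,0,0⟩, ⟨46,7,41,0,1⟩]⟩,
  ⟨[7,6,5,4,3,1,2,0,3,2,4,3,1,5,4,3,2,6], [⟨52,0,41,6,1⟩, ⟨47,5,41,6,1⟩, ⟨42,0,36,6,2⟩, ⟨47,4,41,6,1⟩, ⟨47,3,41,6,1⟩, ⟨53,0,0,0,0⟩, ⟨41,0,0,0,0⟩, ⟨54,0,0,0,0⟩]⟩,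
  ⟨[7,6,5,4,3,1,2,0,3,2,4,3,1,5,4,3,6,5], [⟨48,2,42,5,1⟩, ⟨48,5,42,5,1⟩, ⟨53,0,42,5,1⟩, ⟨43,0,37,5,2⟩, ⟨55,0,0,0,0⟩, ⟨42,0,0,0,0⟩, ⟨48,1,36,5,2⟩, ⟨56,0,0,0,0⟩]⟩,
  ⟨[7,6,5,4,3,1,2,0,3,2,4,3,1,5,4,3,6,7], [⟨49,2,42,7,1⟩, ⟨49,5,42,7,1⟩, ⟨54,0,42,7,1⟩, ⟨44,0,37,7,2⟩, ⟨49,3,42,7,1⟩, ⟨56,0,42,7,1⟩, ⟨49,7,36,7,2⟩, ⟨42,0,0,0,0⟩]⟩,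
  ⟨[7,6,5,4,3,1,2,0,3,2,4,3,1,5,4,6,5,7], [⟨50,2,43,7,1⟩, ⟨45,0,39,7,2⟩, ⟨50,4,43,7,1⟩, ⟨56,0,43,7,1⟩, ⟨50,6,43,7,1⟩, ⟨44,0,37,7,2⟩, ⟨57,0,0,0,0⟩, ⟨43,0,0,0,0⟩]⟩,
  ⟨[7,6,5,4,3,1,2,0,3,2,4,3,5,4,6,5,7,6], [⟨51,2,45,6,1⟩, ⟨57,0,45,6,1⟩, ⟨51,4,45,6,1⟩, ⟨51,5,45,6,1⟩, ⟨51,6,45,6,1⟩, ⟨51,7,40,6,2⟩, ⟨45,0,0,0,0⟩, ⟨51,1,39,6,2⟩]⟩,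
  ⟨[7,6,5,4,3,1,2,0,3,2,4,3,1,5,4,3,2,0,6], [⟨47,0,41,6,2⟩, ⟨52,5,46,6,1⟩, ⟨52,2,46,6,1⟩, ⟨52,4,46,6,1⟩, ⟨52,3,46,6,1⟩, ⟨58,0,0,0,0⟩, ⟨46,0,0,0,0⟩, ⟨59,0,0,0,0⟩]⟩,
  ⟨[7,6,5,4,3,1,2,0,3,2,4,3,1,5,4,3,2,6,5], [⟨58,0,47,5,1⟩, ⟨53,5,47,5,1⟩, ⟨48,0,42,5,2⟩, ⟨53,4,47,5,1⟩, ⟨60,0,0,0,0⟩, ⟨47,0,0,0,0⟩, ⟨53,1,41,5,2⟩, ⟨61,0,0,0,0⟩]⟩,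
  ⟨[7,6,5,4,3,1,2,0,3,2,4,3,1,5,4,3,2,6,7], [⟨59,0,47,7,1⟩, ⟨54,5,47,7,1⟩, ⟨49,0,42,7,2⟩, ⟨54,4,47,7,1⟩, ⟨54,3,47,7,1⟩, ⟨61,0,47,7,1⟩, ⟨54,7,41,7,2⟩, ⟨47,0,0,0,0⟩]⟩,
  ⟨[7,6,5,4,3,1,2,0,3,2,4,3,1,5,4,3,6,5,4], [⟨55,2,48,4,1⟩, ⟨55,5,48,4,1⟩, ⟨60,0,48,4,1⟩, ⟨55,6,43,4,2⟩, ⟨48,0,0,0,0⟩, ⟨55,3,42,4,2⟩, ⟨55,1,48,4,1⟩, ⟨62,0,0,0,0⟩]⟩,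
  ⟨[7,6,5,4,3,1,2,0,3,2,4,3,1,5,4,3,6,5,7], [⟨56,2,48,7,1⟩, ⟨56,5,48,7,1⟩, ⟨61,0,48,7,1⟩, ⟨50,0,43,7,2⟩, ⟨62,0,48,7,1⟩, ⟨49,0,42,7,2⟩, ⟨63,0,0,0,0⟩, ⟨48,0,0,0,0⟩]⟩,
  ⟨[7,6,5,4,3,1,2,0,3,2,4,3,1,5,4,6,5,7,6], [⟨57,2,50,6,1⟩, ⟨51,0,45,6,2⟩, ⟨57,4,50,6,1⟩, ⟨63,0,50,6,1⟩, ⟨57,6,50,6,1⟩, ⟨57,7,44,6,2⟩, ⟨50,0,0,0,0⟩, ⟨57,1,43,6,2⟩]⟩,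
  ⟨[7,6,5,4,3,1,2,0,3,2,4,3,1,5,4,3,2,0,6,5], [⟨53,0,47,5,2⟩, ⟨58,5,52,5,1⟩, ⟨58,2,52,5,1⟩, ⟨58,4,52,5,1⟩, ⟨64,0,0,0,0⟩, ⟨52,0,0,0,0⟩, ⟨58,1,46,5,2⟩, ⟨65,0,0,0,0⟩]⟩,
  ⟨[7,6,5,4,3,1,2,0,3,2,4,3,1,5,4,3,2,0,6,7], [⟨54,0,47,7,2⟩, ⟨59,5,52,7,1⟩, ⟨59,2,52,7,1⟩, ⟨59,4,52,7,1⟩, ⟨59,3,52,7,1⟩, ⟨65,0,52,7,1⟩, ⟨59,7,46,7,2⟩, ⟨52,0,0,0,0⟩]⟩,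
  ⟨[7,6,5,4,3,1,2,0,3,2,4,3,1,5,4,3,2,6,5,4], [⟨64,0,53,4,1⟩, ⟨60,5,53,4,1⟩, ⟨55,0,48,4,2⟩, ⟨66,0,0,0,0⟩, ⟨53,0,0,0,0⟩, ⟨60,3,47,4,2⟩, ⟨60,1,53,4,1⟩, ⟨67,0,0,0,0⟩]⟩,
  ⟨[7,6,5,4,3,1,2,0,3,2,4,3,1,5,4,3,2,6,5,7], [⟨65,0,53,7,1⟩, ⟨61,5,53,7,1⟩, ⟨56,0,48,7,2⟩, ⟨61,4,53,7,1⟩, ⟨67,0,53,7,1⟩, ⟨54,0,47,7,2⟩, ⟨68,0,0,0,0⟩, ⟨53,0,0,0,0⟩]⟩,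
  ⟨[7,6,5,4,3,1,2,0,3,2,4,3,1,5,4,3,6,5,4,7], [⟨62,2,55,7,1⟩, ⟨62,5,55,7,1⟩, ⟨67,0,55,7,1⟩, ⟨62,6,55,7,1⟩, ⟨56,0,48,7,2⟩, ⟨62,3,55,7,1⟩, ⟨69,0,0,0,0⟩, ⟨55,0,0,0,0⟩]⟩,
  ⟨[7,6,5,4,3,1,2,0,3,2,4,3,1,5,4,3,6,5,7,6], [⟨63,2,56,6,1⟩, ⟨63,5,56,6,1⟩, ⟨68,0,56,6,1⟩, ⟨57,0,50,6,2⟩, ⟨69,0,56,6,1⟩, ⟨63,7,49,6,2⟩, ⟨56,0,0,0,0⟩, ⟨63,1,48,6,2⟩]⟩,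
  ⟨[7,6,5,4,3,1,2,0,3,2,4,3,1,5,4,3,2,0,6,5,4], [⟨60,0,53,4,2⟩, ⟨64,5,58,4,1⟩, ⟨64,2,58,4,1⟩, ⟨70,0,0,0,0⟩, ⟨58,0,0,0,0⟩, ⟨64,3,52,4,2⟩, ⟨64,1,58,4,1⟩, ⟨71,0,0,0,0⟩]⟩,
  ⟨[7,6,5,4,3,1,2,0,3,2,4,3,1,5,4,3,2,0,6,5,7], [⟨61,0,53,7,2⟩, ⟨65,5,58,7,1⟩, ⟨65,2,58,7,1⟩, ⟨65,4,58,7,1⟩, ⟨71,0,58,7,1⟩, ⟨59,0,52,7,2⟩, ⟨72,0,0,0,0⟩, ⟨58,0,0,0,0⟩]⟩,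
  ⟨[7,6,5,4,3,1,2,0,3,2,4,3,1,5,4,3,2,6,5,4,3], [⟨70,0,60,3,1⟩, ⟨73,0,0,0,0⟩, ⟨66,6,55,3,2⟩, ⟨60,0,0,0,0⟩, ⟨66,4,53,3,2⟩, ⟨66,3,60,3,1⟩, ⟨66,1,60,3,1⟩, ⟨74,0,0,0,0⟩]⟩,
  ⟨[7,6,5,4,3,1,2,0,3,2,4,3,1,5,4,3,2,6,5,4,7], [⟨71,0,60,7,1⟩, ⟨67,5,60,7,1⟩, ⟨62,0,55,7,2⟩, ⟨74,0,60,7,1⟩, ⟨61,0,53,7,2⟩, ⟨67,3,60,7,1⟩, ⟨75,0,0,0,0⟩, ⟨60,0,0,0,0⟩]⟩,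
  ⟨[7,6,5,4,3,1,2,0,3,2,4,3,1,5,4,3,2,6,5,7,6], [⟨72,0,61,6,1⟩, ⟨68,5,61,6,1⟩, ⟨63,0,56,6,2⟩, ⟨68,4,61,6,1⟩, ⟨75,0,61,6,1⟩, ⟨68,7,54,6,2⟩, ⟨61,0,0,0,0⟩, ⟨68,1,53,6,2⟩]⟩,
  ⟨[7,6,5,4,3,1,2,0,3,2,4,3,1,5,4,3,6,5,4,7,6], [⟨69,2,62,6,1⟩, ⟨69,5,62,6,1⟩, ⟨75,0,62,6,1⟩, ⟨69,6,62,6,1⟩, ⟨63,0,56,6,2⟩, ⟨76,0,0,0,0⟩, ⟨62,0,0,0,0⟩, ⟨69,1,55,6,2⟩]⟩,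
  ⟨[7,6,5,4,3,1,2,0,3,2,4,3,1,5,4,3,2,0,6,5,4,3], [⟨66,0,60,3,2⟩, ⟨77,0,0,0,0⟩, ⟨78,0,0,0,0⟩, ⟨64,0,0,0,0⟩, ⟨70,4,58,3,2⟩, ⟨70,3,64,3,1⟩, ⟨70,1,64,3,1⟩, ⟨79,0,0,0,0⟩]⟩,
  ⟨[7,6,5,4,3,1,2,0,3,2,4,3,1,5,4,3,2,0,6,5,4,7], [⟨67,0,60,7,2⟩, ⟨71,5,64,7,1⟩, ⟨71,2,64,7,1⟩, ⟨79,0,64,7,1⟩, ⟨65,0,58,7,2⟩, ⟨71,3,64,7,1⟩, ⟨80,0,0,0,0⟩, ⟨64,0,0,0,0⟩]⟩,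
  ⟨[7,6,5,4,3,1,2,0,3,2,4,3,1,5,4,3,2,0,6,5,7,6], [⟨68,0,61,6,2⟩, ⟨72,5,65,6,1⟩, ⟨72,2,65,6,1⟩, ⟨72,4,65,6,1⟩, ⟨80,0,65,6,1⟩, ⟨72,7,59,6,2⟩, ⟨65,0,0,0,0⟩, ⟨72,1,58,6,2⟩]⟩,
  ⟨[7,6,5,4,3,1,2,0,3,2,4,3,1,5,4,3,2,6,5,4,3,1], [⟨77,0,66,1,1⟩, ⟨66,0,0,0,0⟩, ⟨73,6,66,1,1⟩, ⟨73,5,60,1,2⟩, ⟨73,4,66,1,1⟩, ⟨73,3,66,1,1⟩, ⟨73,1,66,1,1⟩, ⟨81,0,0,0,0⟩]⟩,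
  ⟨[7,6,5,4,3,1,2,0,3,2,4,3,1,5,4,3,2,6,5,4,3,7], [⟨79,0,66,7,1⟩, ⟨81,0,66,7,1⟩, ⟨74,6,66,7,1⟩, ⟨67,0,60,7,2⟩, ⟨74,4,66,7,1⟩, ⟨74,3,66,7,1⟩, ⟨82,0,0,0,0⟩, ⟨66,0,0,0,0⟩]⟩,
  ⟨[7,6,5,4,3,1,2,0,3,2,4,3,1,5,4,3,2,6,5,4,7,6], [⟨80,0,67,6,1⟩, ⟨75,5,67,6,1⟩, ⟨69,0,62,6,2⟩, ⟨82,0,67,6,1⟩, ⟨68,0,61,6,2⟩, ⟨83,0,0,0,0⟩, ⟨67,0,0,0,0⟩, ⟨75,1,60,6,2⟩]⟩,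
  ⟨[7,6,5,4,3,1,2,0,3,2,4,3,1,5,4,3,6,5,4,7,6,5], [⟨76,2,69,5,1⟩, ⟨76,5,69,5,1⟩, ⟨83,0,69,5,1⟩, ⟨76,6,69,5,1⟩, ⟨76,7,63,5,2⟩, ⟨69,0,0,0,0⟩, ⟨76,3,62,5,2⟩, ⟨76,1,69,5,1⟩]⟩,
  ⟨[7,6,5,4,3,1,2,0,3,2,4,3,1,5,4,3,2,0,6,5,4,3,1], [⟨73,0,66,1,2⟩, ⟨70,0,0,0,0⟩, ⟨84,0,0,0,0⟩, ⟨77,5,64,1,2⟩, ⟨77,4,70,1,1⟩, ⟨77,3,70,1,1⟩, ⟨77,1,70,1,1⟩, ⟨85,0,0,0,0⟩]⟩,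
  ⟨[7,6,5,4,3,1,2,0,3,2,4,3,1,5,4,3,2,0,6,5,4,3,2], [⟨78,6,66,2,2⟩, ⟨84,0,70,2,1⟩, ⟨70,0,0,0,0⟩, ⟨78,2,64,2,2⟩, ⟨78,4,70,2,1⟩, ⟨78,3,70,2,1⟩, ⟨78,1,70,2,1⟩, ⟨86,0,0,0,0⟩]⟩,
  ⟨[7,6,5,4,3,1,2,0,3,2,4,3,1,5,4,3,2,0,6,5,4,3,7], [⟨74,0,66,7,2⟩, ⟨85,0,70,7,1⟩, ⟨86,0,70,7,1⟩, ⟨71,0,64,7,2⟩, ⟨79,4,70,7,1⟩, ⟨79,3,70,7,1⟩, ⟨87,0,0,0,0⟩, ⟨70,0,0,0,0⟩]⟩,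
  ⟨[7,6,5,4,3,1,2,0,3,2,4,3,1,5,4,3,2,0,6,5,4,7,6], [⟨75,0,67,6,2⟩, ⟨80,5,71,6,1⟩, ⟨80,2,71,6,1⟩, ⟨87,0,71,6,1⟩, ⟨72,0,65,6,2⟩, ⟨88,0,0,0,0⟩, ⟨71,0,0,0,0⟩, ⟨80,1,64,6,2⟩]⟩,
  ⟨[7,6,5,4,3,1,2,0,3,2,4,3,1,5,4,3,2,6,5,4,3,1,7], [⟨85,0,73,7,1⟩, ⟨74,0,66,7,2⟩, ⟨81,6,73,7,1⟩, ⟨81,5,73,7,1⟩, ⟨81,4,73,7,1⟩, ⟨81,3,73,7,1⟩, ⟨89,0,0,0,0⟩, ⟨73,0,0,0,0⟩]⟩,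
  ⟨[7,6,5,4,3,1,2,0,3,2,4,3,1,5,4,3,2,6,5,4,3,7,6], [⟨87,0,74,6,1⟩, ⟨89,0,74,6,1⟩, ⟨82,6,74,6,1⟩, ⟨75,0,67,6,2⟩, ⟨82,4,74,6,1⟩, ⟨90,0,0,0,0⟩, ⟨74,0,0,0,0⟩, ⟨82,1,66,6,2⟩]⟩,
  ⟨[7,6,5,4,3,1,2,0,3,2,4,3,1,5,4,3,2,6,5,4,7,6,5], [⟨88,0,75,5,1⟩, ⟨83,5,75,5,1⟩, ⟨76,0,69,5,2⟩, ⟨90,0,75,5,1⟩, ⟨83,7,68,5,2⟩, ⟨75,0,0,0,0⟩, ⟨83,3,67,5,2⟩, ⟨83,1,75,5,1⟩]⟩,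
  ⟨[7,6,5,4,3,1,2,0,3,2,4,3,1,5,4,3,2,0,6,5,4,3,1,2], [⟨84,6,73,2,2⟩, ⟨78,0,70,2,2⟩, ⟨77,0,0,0,0⟩, ⟨91,0,0,0,0⟩, ⟨84,4,77,2,1⟩, ⟨84,3,77,2,1⟩, ⟨84,1,77,2,1⟩, ⟨92,0,0,0,0⟩]⟩,
  ⟨[7,6,5,4,3,1,2,0,3,2,4,3,1,5,4,3,2,0,6,5,4,3,1,7], [⟨81,0,73,7,2⟩, ⟨79,0,70,7,2⟩, ⟨92,0,77,7,1⟩, ⟨85,5,77,7,1⟩, ⟨85,4,77,7,1⟩, ⟨85,3,77,7,1⟩, ⟨93,0,0,0,0⟩, ⟨77,0,0,0,0⟩]⟩,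
  ⟨[7,6,5,4,3,1,2,0,3,2,4,3,1,5,4,3,2,0,6,5,4,3,2,7], [⟨86,6,78,7,1⟩, ⟨92,0,78,7,1⟩, ⟨79,0,70,7,2⟩, ⟨86,2,78,7,1⟩, ⟨86,4,78,7,1⟩, ⟨86,3,78,7,1⟩, ⟨94,0,0,0,0⟩, ⟨78,0,0,0,0⟩]⟩,
  ⟨[7,6,5,4,3,1,2,0,3,2,4,3,1,5,4,3,2,0,6,5,4,3,7,6], [⟨82,0,74,6,2⟩, ⟨93,0,79,6,1⟩, ⟨94,0,79,6,1⟩, ⟨80,0,71,6,2⟩, ⟨87,4,79,6,1⟩, ⟨95,0,0,0,0⟩, ⟨79,0,0,0,0⟩, ⟨87,1,70,6,2⟩]⟩,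
  ⟨[7,6,5,4,3,1,2,0,3,2,4,3,1,5,4,3,2,0,6,5,4,7,6,5], [⟨83,0,75,5,2⟩, ⟨88,5,80,5,1⟩, ⟨88,2,80,5,1⟩, ⟨95,0,80,5,1⟩, ⟨88,7,72,5,2⟩, ⟨80,0,0,0,0⟩, ⟨88,3,71,5,2⟩, ⟨88,1,80,5,1⟩]⟩,
  ⟨[7,6,5,4,3,1,2,0,3,2,4,3,1,5,4,3,2,6,5,4,3,1,7,6], [⟨93,0,81,6,1⟩, ⟨82,0,74,6,2⟩, ⟨89,6,81,6,1⟩, ⟨89,5,81,6,1⟩, ⟨89,4,81,6,1⟩, ⟨96,0,0,0,0⟩, ⟨81,0,0,0,0⟩, ⟨89,1,73,6,2⟩]⟩,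
  ⟨[7,6,5,4,3,1,2,0,3,2,4,3,1,5,4,3,2,6,5,4,3,7,6,5], [⟨95,0,82,5,1⟩, ⟨96,0,82,5,1⟩, ⟨90,6,82,5,1⟩, ⟨83,0,75,5,2⟩, ⟨97,0,0,0,0⟩, ⟨82,0,0,0,0⟩, ⟨90,3,74,5,2⟩, ⟨90,1,82,5,1⟩]⟩,
  ⟨[7,6,5,4,3,1,2,0,3,2,4,3,1,5,4,3,2,0,6,5,4,3,1,2,3], [⟨91,6,84,3,1⟩, ⟨91,2,78,3,2⟩, ⟨91,5,77,3,2⟩, ⟨84,0,0,0,0⟩, ⟨98,0,0,0,0⟩, ⟨91,3,84,3,1⟩, ⟨91,1,84,3,1⟩, ⟨99,0,0,0,0⟩]⟩,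
  ⟨[7,6,5,4,3,1,2,0,3,2,4,3,1,5,4,3,2,0,6,5,4,3,1,2,7], [⟨92,6,84,7,1⟩, ⟨86,0,78,7,2⟩, ⟨85,0,77,7,2⟩, ⟨99,0,84,7,1⟩, ⟨92,4,84,7,1⟩, ⟨92,3,84,7,1⟩, ⟨100,0,0,0,0⟩, ⟨84,0,0,0,0⟩]⟩,
  ⟨[7,6,5,4,3,1,2,0,3,2,4,3,1,5,4,3,2,0,6,5,4,3,1,7,6], [⟨89,0,81,6,2⟩, ⟨87,0,79,6,2⟩, ⟨100,0,85,6,1⟩, ⟨93,5,85,6,1⟩, ⟨93,4,85,6,1⟩, ⟨101,0,0,0,0⟩, ⟨85,0,0,0,0⟩, ⟨93,1,77,6,2⟩]⟩,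
  ⟨[7,6,5,4,3,1,2,0,3,2,4,3,1,5,4,3,2,0,6,5,4,3,2,7,6], [⟨94,6,86,6,1⟩, ⟨100,0,86,6,1⟩, ⟨87,0,79,6,2⟩, ⟨94,2,86,6,1⟩, ⟨94,4,86,6,1⟩, ⟨102,0,0,0,0⟩, ⟨86,0,0,0,0⟩, ⟨94,1,78,6,2⟩]⟩,
  ⟨[7,6,5,4,3,1,2,0,3,2,4,3,1,5,4,3,2,0,6,5,4,3,7,6,5], [⟨90,0,82,5,2⟩, ⟨101,0,87,5,1⟩, ⟨102,0,87,5,1⟩, ⟨88,0,80,5,2⟩, ⟨103,0,0,0,0⟩, ⟨87,0,0,0,0⟩, ⟨95,3,79,5,2⟩, ⟨95,1,87,5,1⟩]⟩,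
  ⟨[7,6,5,4,3,1,2,0,3,2,4,3,1,5,4,3,2,6,5,4,3,1,7,6,5], [⟨101,0,89,5,1⟩, ⟨90,0,82,5,2⟩, ⟨96,6,89,5,1⟩, ⟨96,5,89,5,1⟩, ⟨104,0,0,0,0⟩, ⟨89,0,0,0,0⟩, ⟨96,3,81,5,2⟩, ⟨96,1,89,5,1⟩]⟩,
  ⟨[7,6,5,4,3,1,2,0,3,2,4,3,1,5,4,3,2,6,5,4,3,7,6,5,4], [⟨103,0,90,4,1⟩, ⟨104,0,90,4,1⟩, ⟨97,6,90,4,1⟩, ⟨97,7,83,4,2⟩, ⟨90,0,0,0,0⟩, ⟨97,4,82,4,2⟩, ⟨97,3,90,4,1⟩, ⟨97,1,90,4,1⟩]⟩,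
  ⟨[7,6,5,4,3,1,2,0,3,2,4,3,1,5,4,3,2,0,6,5,4,3,1,2,3,4], [⟨98,6,91,4,1⟩, ⟨98,2,91,4,1⟩, ⟨98,5,91,4,1⟩, ⟨98,4,84,4,2⟩, ⟨91,0,0,0,0⟩, ⟨105,0,0,0,0⟩, ⟨98,1,91,4,1⟩, ⟨106,0,0,0,0⟩]⟩,
  ⟨[7,6,5,4,3,1,2,0,3,2,4,3,1,5,4,3,2,0,6,5,4,3,1,2,3,7], [⟨99,6,91,7,1⟩, ⟨99,2,91,7,1⟩, ⟨99,5,91,7,1⟩, ⟨92,0,84,7,2⟩, ⟨106,0,91,7,1⟩, ⟨99,3,91,7,1⟩, ⟨107,0,0,0,0⟩, ⟨91,0,0,0,0⟩]⟩,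
  ⟨[7,6,5,4,3,1,2,0,3,2,4,3,1,5,4,3,2,0,6,5,4,3,1,2,7,6], [⟨100,6,92,6,1⟩, ⟨94,0,86,6,2⟩, ⟨93,0,85,6,2⟩, ⟨107,0,92,6,1⟩, ⟨100,4,92,6,1⟩, ⟨108,0,0,0,0⟩, ⟨92,0,0,0,0⟩, ⟨100,1,84,6,2⟩]⟩,
  ⟨[7,6,5,4,3,1,2,0,3,2,4,3,1,5,4,3,2,0,6,5,4,3,1,7,6,5], [⟨96,0,89,5,2⟩, ⟨95,0,87,5,2⟩, ⟨108,0,93,5,1⟩, ⟨101,5,93,5,1⟩, ⟨109,0,0,0,0⟩, ⟨93,0,0,0,0⟩, ⟨101,3,85,5,2⟩, ⟨101,1,93,5,1⟩]⟩,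
  ⟨[7,6,5,4,3,1,2,0,3,2,4,3,1,5,4,3,2,0,6,5,4,3,2,7,6,5], [⟨102,6,94,5,1⟩, ⟨108,0,94,5,1⟩, ⟨95,0,87,5,2⟩, ⟨102,2,94,5,1⟩, ⟨110,0,0,0,0⟩, ⟨94,0,0,0,0⟩, ⟨102,3,86,5,2⟩, ⟨102,1,94,5,1⟩]⟩,
  ⟨[7,6,5,4,3,1,2,0,3,2,4,3,1,5,4,3,2,0,6,5,4,3,7,6,5,4], [⟨97,0,90,4,2⟩, ⟨109,0,95,4,1⟩, ⟨110,0,95,4,1⟩, ⟨103,7,88,4,2⟩, ⟨95,0,0,0,0⟩, ⟨103,4,87,4,2⟩, ⟨103,3,95,4,1⟩, ⟨103,1,95,4,1⟩]⟩,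
  ⟨[7,6,5,4,3,1,2,0,3,2,4,3,1,5,4,3,2,6,5,4,3,1,7,6,5,4], [⟨109,0,96,4,1⟩, ⟨97,0,90,4,2⟩, ⟨104,6,96,4,1⟩, ⟨111,0,0,0,0⟩, ⟨96,0,0,0,0⟩, ⟨104,4,89,4,2⟩, ⟨104,3,96,4,1⟩, ⟨104,1,96,4,1⟩]⟩,
  ⟨[7,6,5,4,3,1,2,0,3,2,4,3,1,5,4,3,2,0,6,5,4,3,1,2,3,4,5], [⟨105,6,98,5,1⟩, ⟨105,2,98,5,1⟩, ⟨105,5,98,5,1⟩, ⟨105,4,98,5,1⟩, ⟨105,3,91,5,2⟩, ⟨98,0,0,0,0⟩, ⟨112,0,0,0,0⟩, ⟨113,0,0,0,0⟩]⟩,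
  ⟨[7,6,5,4,3,1,2,0,3,2,4,3,1,5,4,3,2,0,6,5,4,3,1,2,3,4,7], [⟨106,6,98,7,1⟩, ⟨106,2,98,7,1⟩, ⟨106,5,98,7,1⟩, ⟨106,4,98,7,1⟩, ⟨99,0,91,7,2⟩, ⟨113,0,98,7,1⟩, ⟨114,0,0,0,0⟩, ⟨98,0,0,0,0⟩]⟩,
  ⟨[7,6,5,4,3,1,2,0,3,2,4,3,1,5,4,3,2,0,6,5,4,3,1,2,3,7,6], [⟨107,6,99,6,1⟩, ⟨107,2,99,6,1⟩, ⟨107,5,99,6,1⟩, ⟨100,0,92,6,2⟩, ⟨114,0,99,6,1⟩, ⟨115,0,0,0,0⟩, ⟨99,0,0,0,0⟩, ⟨107,1,91,6,2⟩]⟩,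
  ⟨[7,6,5,4,3,1,2,0,3,2,4,3,1,5,4,3,2,0,6,5,4,3,1,2,7,6,5], [⟨108,6,100,5,1⟩, ⟨102,0,94,5,2⟩, ⟨101,0,93,5,2⟩, ⟨115,0,100,5,1⟩, ⟨116,0,0,0,0⟩, ⟨100,0,0,0,0⟩, ⟨108,3,92,5,2⟩, ⟨108,1,100,5,1⟩]⟩,
  ⟨[7,6,5,4,3,1,2,0,3,2,4,3,1,5,4,3,2,0,6,5,4,3,1,7,6,5,4], [⟨104,0,96,4,2⟩, ⟨103,0,95,4,2⟩, ⟨116,0,101,4,1⟩, ⟨117,0,0,0,0⟩, ⟨101,0,0,0,0⟩, ⟨109,4,93,4,2⟩, ⟨109,3,101,4,1⟩, ⟨109,1,101,4,1⟩]⟩,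
  ⟨[7,6,5,4,3,1,2,0,3,2,4,3,1,5,4,3,2,0,6,5,4,3,2,7,6,5,4], [⟨110,6,102,4,1⟩, ⟨116,0,102,4,1⟩, ⟨103,0,95,4,2⟩, ⟨118,0,0,0,0⟩, ⟨102,0,0,0,0⟩, ⟨110,4,94,4,2⟩, ⟨110,3,102,4,1⟩, ⟨110,1,102,4,1⟩]⟩,
  ⟨[7,6,5,4,3,1,2,0,3,2,4,3,1,5,4,3,2,6,5,4,3,1,7,6,5,4,3], [⟨117,0,104,3,1⟩, ⟨111,7,97,3,2⟩, ⟨119,0,0,0,0⟩, ⟨104,0,0,0,0⟩, ⟨111,5,96,3,2⟩, ⟨111,4,104,3,1⟩, ⟨111,3,104,3,1⟩, ⟨111,1,104,3,1⟩]⟩,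
  ⟨[7,6,5,4,3,1,2,0,3,2,4,3,1,5,4,3,2,0,6,5,4,3,1,2,3,4,5,6], [⟨112,6,105,6,1⟩, ⟨112,2,105,6,1⟩, ⟨112,5,105,6,1⟩, ⟨112,4,105,6,1⟩, ⟨112,3,105,6,1⟩, ⟨112,1,98,6,2⟩, ⟨105,0,0,0,0⟩, ⟨120,0,0,0,0⟩]⟩,
  ⟨[7,6,5,4,3,1,2,0,3,2,4,3,1,5,4,3,2,0,6,5,4,3,1,2,3,4,5,7], [⟨113,6,105,7,1⟩, ⟨113,2,105,7,1⟩, ⟨113,5,105,7,1⟩, ⟨113,4,105,7,1⟩, ⟨113,3,105,7,1⟩, ⟨106,0,98,7,2⟩, ⟨121,0,0,0,0⟩, ⟨105,0,0,0,0⟩]⟩,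
  ⟨[7,6,5,4,3,1,2,0,3,2,4,3,1,5,4,3,2,0,6,5,4,3,1,2,3,4,7,6], [⟨114,6,106,6,1⟩, ⟨114,2,106,6,1⟩, ⟨114,5,106,6,1⟩, ⟨114,4,106,6,1⟩, ⟨107,0,99,6,2⟩, ⟨122,0,0,0,0⟩, ⟨106,0,0,0,0⟩, ⟨114,1,98,6,2⟩]⟩,
  ⟨[7,6,5,4,3,1,2,0,3,2,4,3,1,5,4,3,2,0,6,5,4,3,1,2,3,7,6,5], [⟨115,6,107,5,1⟩, ⟨115,2,107,5,1⟩, ⟨115,5,107,5,1⟩, ⟨108,0,100,5,2⟩, ⟨123,0,0,0,0⟩, ⟨107,0,0,0,0⟩, ⟨115,3,99,5,2⟩, ⟨115,1,107,5,1⟩]⟩,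
  ⟨[7,6,5,4,3,1,2,0,3,2,4,3,1,5,4,3,2,0,6,5,4,3,1,2,7,6,5,4], [⟨116,6,108,4,1⟩, ⟨110,0,102,4,2⟩, ⟨109,0,101,4,2⟩, ⟨124,0,0,0,0⟩, ⟨108,0,0,0,0⟩, ⟨116,4,100,4,2⟩, ⟨116,3,108,4,1⟩, ⟨116,1,108,4,1⟩]⟩,
  ⟨[7,6,5,4,3,1,2,0,3,2,4,3,1,5,4,3,2,0,6,5,4,3,1,7,6,5,4,3], [⟨111,0,104,3,2⟩, ⟨117,7,103,3,2⟩, ⟨125,0,0,0,0⟩, ⟨109,0,0,0,0⟩, ⟨117,5,101,3,2⟩, ⟨117,4,109,3,1⟩, ⟨117,3,109,3,1⟩, ⟨117,1,109,3,1⟩]⟩,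
  ⟨[7,6,5,4,3,1,2,0,3,2,4,3,1,5,4,3,2,0,6,5,4,3,2,7,6,5,4,3], [⟨118,6,110,3,1⟩, ⟨126,0,0,0,0⟩, ⟨118,7,103,3,2⟩, ⟨110,0,0,0,0⟩, ⟨118,2,102,3,2⟩, ⟨118,4,110,3,1⟩, ⟨118,3,110,3,1⟩, ⟨118,1,110,3,1⟩]⟩,
  ⟨[7,6,5,4,3,1,2,0,3,2,4,3,1,5,4,3,2,6,5,4,3,1,7,6,5,4,3,2], [⟨127,0,0,0,0⟩, ⟨119,7,111,2,1⟩, ⟨111,0,0,0,0⟩, ⟨119,6,104,2,2⟩, ⟨119,5,111,2,1⟩, ⟨119,4,111,2,1⟩, ⟨119,3,111,2,1⟩, ⟨119,1,111,2,1⟩]⟩,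
  ⟨[7,6,5,4,3,1,2,0,3,2,4,3,1,5,4,3,2,0,6,5,4,3,1,2,3,4,5,6,7], [⟨120,6,112,7,1⟩, ⟨120,2,112,7,1⟩, ⟨120,5,112,7,1⟩, ⟨120,4,112,7,1⟩, ⟨120,3,112,7,1⟩, ⟨120,1,112,7,1⟩, ⟨128,0,0,0,0⟩, ⟨112,0,0,0,0⟩]⟩,
  ⟨[7,6,5,4,3,1,2,0,3,2,4,3,1,5,4,3,2,0,6,5,4,3,1,2,3,4,5,7,6], [⟨121,6,113,6,1⟩, ⟨121,2,113,6,1⟩, ⟨121,5,113,6,1⟩, ⟨121,4,113,6,1⟩, ⟨121,3,113,6,1⟩, ⟨129,0,0,0,0⟩, ⟨113,0,0,0,0⟩, ⟨128,0,105,6,2⟩]⟩,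
  ⟨[7,6,5,4,3,1,2,0,3,2,4,3,1,5,4,3,2,0,6,5,4,3,1,2,3,4,7,6,5], [⟨122,6,114,5,1⟩, ⟨122,2,114,5,1⟩, ⟨122,5,114,5,1⟩, ⟨122,4,114,5,1⟩, ⟨130,0,0,0,0⟩, ⟨114,0,0,0,0⟩, ⟨129,0,106,5,2⟩, ⟨122,1,114,5,1⟩]⟩,
  ⟨[7,6,5,4,3,1,2,0,3,2,4,3,1,5,4,3,2,0,6,5,4,3,1,2,3,7,6,5,4], [⟨123,6,115,4,1⟩, ⟨123,2,115,4,1⟩, ⟨123,5,115,4,1⟩, ⟨131,0,0,0,0⟩, ⟨115,0,0,0,0⟩, ⟨130,0,107,4,2⟩, ⟨123,3,115,4,1⟩, ⟨123,1,115,4,1⟩]⟩,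
  ⟨[7,6,5,4,3,1,2,0,3,2,4,3,1,5,4,3,2,0,6,5,4,3,1,2,7,6,5,4,3], [⟨124,6,116,3,1⟩, ⟨132,0,0,0,0⟩, ⟨133,0,0,0,0⟩, ⟨116,0,0,0,0⟩, ⟨131,0,108,3,2⟩, ⟨124,4,116,3,1⟩, ⟨124,3,116,3,1⟩, ⟨124,1,116,3,1⟩]⟩,
  ⟨[7,6,5,4,3,1,2,0,3,2,4,3,1,5,4,3,2,0,6,5,4,3,1,7,6,5,4,3,2], [⟨134,0,0,0,0⟩, ⟨125,7,117,2,1⟩, ⟨117,0,0,0,0⟩, ⟨133,0,109,2,2⟩, ⟨125,5,117,2,1⟩, ⟨125,4,117,2,1⟩, ⟨125,3,117,2,1⟩, ⟨125,1,117,2,1⟩]⟩,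
  ⟨[7,6,5,4,3,1,2,0,3,2,4,3,1,5,4,3,2,0,6,5,4,3,2,7,6,5,4,3,1], [⟨126,6,118,1,1⟩, ⟨118,0,0,0,0⟩, ⟨126,7,118,1,1⟩, ⟨132,0,110,1,2⟩, ⟨126,2,118,1,1⟩, ⟨126,4,118,1,1⟩, ⟨126,3,118,1,1⟩, ⟨126,1,118,1,1⟩]⟩,
  ⟨[7,6,5,4,3,1,2,0,3,2,4,3,1,5,4,3,2,6,5,4,3,1,7,6,5,4,3,2,0], [⟨119,0,0,0,0⟩, ⟨127,7,119,0,1⟩, ⟨134,0,111,0,2⟩, ⟨127,6,119,0,1⟩, ⟨127,5,119,0,1⟩, ⟨127,4,119,0,1⟩, ⟨127,3,119,0,1⟩, ⟨127,1,119,0,1⟩]⟩,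
  ⟨[7,6,5,4,3,1,2,0,3,2,4,3,1,5,4,3,2,0,6,5,4,3,1,2,3,4,5,6,7,6], [⟨128,6,120,6,1⟩, ⟨128,2,120,6,1⟩, ⟨128,5,120,6,1⟩, ⟨128,4,120,6,1⟩, ⟨128,3,120,6,1⟩, ⟨135,0,0,0,0⟩, ⟨120,0,0,0,0⟩, ⟨121,0,105,6,3⟩]⟩,
  ⟨[7,6,5,4,3,1,2,0,3,2,4,3,1,5,4,3,2,0,6,5,4,3,1,2,3,4,5,7,6,5], [⟨129,6,121,5,1⟩, ⟨129,2,121,5,1⟩, ⟨129,5,121,5,1⟩, ⟨129,4,121,5,1⟩, ⟨136,0,0,0,0⟩, ⟨121,0,0,0,0⟩, ⟨122,0,106,5,3⟩, ⟨135,0,121,5,1⟩]⟩,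
  ⟨[7,6,5,4,3,1,2,0,3,2,4,3,1,5,4,3,2,0,6,5,4,3,1,2,3,4,7,6,5,4], [⟨130,6,122,4,1⟩, ⟨130,2,122,4,1⟩, ⟨130,5,122,4,1⟩, ⟨137,0,0,0,0⟩, ⟨122,0,0,0,0⟩, ⟨123,0,107,4,3⟩, ⟨136,0,122,4,1⟩, ⟨130,1,122,4,1⟩]⟩,
  ⟨[7,6,5,4,3,1,2,0,3,2,4,3,1,5,4,3,2,0,6,5,4,3,1,2,3,7,6,5,4,3], [⟨131,6,123,3,1⟩, ⟨138,0,0,0,0⟩, ⟨139,0,0,0,0⟩, ⟨123,0,0,0,0⟩, ⟨124,0,108,3,3⟩, ⟨137,0,123,3,1⟩, ⟨131,3,123,3,1⟩, ⟨131,1,123,3,1⟩]⟩,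
  ⟨[7,6,5,4,3,1,2,0,3,2,4,3,1,5,4,3,2,0,6,5,4,3,1,2,7,6,5,4,3,1], [⟨132,6,124,1,1⟩, ⟨124,0,0,0,0⟩, ⟨140,0,0,0,0⟩, ⟨126,0,110,1,3⟩, ⟨138,0,124,1,1⟩, ⟨132,4,124,1,1⟩, ⟨132,3,124,1,1⟩, ⟨132,1,124,1,1⟩]⟩,
  ⟨[7,6,5,4,3,1,2,0,3,2,4,3,1,5,4,3,2,0,6,5,4,3,1,2,7,6,5,4,3,2], [⟨141,0,0,0,0⟩, ⟨140,0,124,2,1⟩, ⟨124,0,0,0,0⟩, ⟨125,0,109,2,3⟩, ⟨139,0,124,2,1⟩, ⟨133,4,124,2,1⟩, ⟨133,3,124,2,1⟩, ⟨133,1,124,2,1⟩]⟩,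
  ⟨[7,6,5,4,3,1,2,0,3,2,4,3,1,5,4,3,2,0,6,5,4,3,1,7,6,5,4,3,2,0], [⟨125,0,0,0,0⟩, ⟨134,7,125,0,1⟩, ⟨127,0,111,0,3⟩, ⟨141,0,125,0,1⟩, ⟨134,5,125,0,1⟩, ⟨134,4,125,0,1⟩, ⟨134,3,125,0,1⟩, ⟨134,1,125,0,1⟩]⟩,
  ⟨[7,6,5,4,3,1,2,0,3,2,4,3,1,5,4,3,2,0,6,5,4,3,1,2,3,4,5,6,7,6,5], [⟨135,6,128,5,1⟩, ⟨135,2,128,5,1⟩, ⟨135,5,128,5,1⟩, ⟨135,4,128,5,1⟩, ⟨142,0,0,0,0⟩, ⟨128,0,0,0,0⟩, ⟨135,1,120,5,2⟩, ⟨129,0,121,5,2⟩]⟩,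
  ⟨[7,6,5,4,3,1,2,0,3,2,4,3,1,5,4,3,2,0,6,5,4,3,1,2,3,4,5,7,6,5,4], [⟨136,6,129,4,1⟩, ⟨136,2,129,4,1⟩, ⟨136,5,129,4,1⟩, ⟨143,0,0,0,0⟩, ⟨129,0,0,0,0⟩, ⟨136,3,121,4,2⟩, ⟨130,0,122,4,2⟩, ⟨142,0,129,4,1⟩]⟩,
  ⟨[7,6,5,4,3,1,2,0,3,2,4,3,1,5,4,3,2,0,6,5,4,3,1,2,3,4,7,6,5,4,3], [⟨137,6,130,3,1⟩, ⟨144,0,0,0,0⟩, ⟨145,0,0,0,0⟩, ⟨130,0,0,0,0⟩, ⟨137,4,122,3,2⟩, ⟨131,0,123,3,2⟩, ⟨143,0,130,3,1⟩, ⟨137,1,130,3,1⟩]⟩,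
  ⟨[7,6,5,4,3,1,2,0,3,2,4,3,1,5,4,3,2,0,6,5,4,3,1,2,3,7,6,5,4,3,1], [⟨138,6,131,1,1⟩, ⟨131,0,0,0,0⟩, ⟨146,0,0,0,0⟩, ⟨138,2,123,1,2⟩, ⟨132,0,124,1,2⟩, ⟨144,0,131,1,1⟩, ⟨138,3,131,1,1⟩, ⟨138,1,131,1,1⟩]⟩,
  ⟨[7,6,5,4,3,1,2,0,3,2,4,3,1,5,4,3,2,0,6,5,4,3,1,2,3,7,6,5,4,3,2], [⟨147,0,0,0,0⟩, ⟨146,0,131,2,1⟩, ⟨131,0,0,0,0⟩, ⟨139,5,123,2,2⟩, ⟨133,0,124,2,2⟩, ⟨145,0,131,2,1⟩, ⟨139,3,131,2,1⟩, ⟨139,1,131,2,1⟩]⟩,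
  ⟨[7,6,5,4,3,1,2,0,3,2,4,3,1,5,4,3,2,0,6,5,4,3,1,2,7,6,5,4,3,1,2], [⟨148,0,0,0,0⟩, ⟨133,0,124,2,2⟩, ⟨132,0,0,0,0⟩, ⟨140,7,126,2,2⟩, ⟨146,0,132,2,1⟩, ⟨140,4,132,2,1⟩, ⟨140,3,132,2,1⟩, ⟨140,1,132,2,1⟩]⟩,
  ⟨[7,6,5,4,3,1,2,0,3,2,4,3,1,5,4,3,2,0,6,5,4,3,1,2,7,6,5,4,3,2,0], [⟨133,0,0,0,0⟩, ⟨148,0,133,0,1⟩, ⟨141,6,124,0,2⟩, ⟨134,0,125,0,2⟩, ⟨147,0,133,0,1⟩, ⟨141,4,133,0,1⟩, ⟨141,3,133,0,1⟩, ⟨141,1,133,0,1⟩]⟩,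
  ⟨[7,6,5,4,3,1,2,0,3,2,4,3,1,5,4,3,2,0,6,5,4,3,1,2,3,4,5,6,7,6,5,4], [⟨142,6,135,4,1⟩, ⟨142,2,135,4,1⟩, ⟨142,5,135,4,1⟩, ⟨149,0,0,0,0⟩, ⟨135,0,0,0,0⟩, ⟨142,3,128,4,2⟩, ⟨142,1,135,4,1⟩, ⟨136,0,129,4,2⟩]⟩,
  ⟨[7,6,5,4,3,1,2,0,3,2,4,3,1,5,4,3,2,0,6,5,4,3,1,2,3,4,5,7,6,5,4,3], [⟨143,6,136,3,1⟩, ⟨150,0,0,0,0⟩, ⟨151,0,0,0,0⟩, ⟨136,0,0,0,0⟩, ⟨143,4,129,3,2⟩, ⟨143,3,136,3,1⟩, ⟨137,0,130,3,2⟩, ⟨149,0,136,3,1⟩]⟩,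
  ⟨[7,6,5,4,3,1,2,0,3,2,4,3,1,5,4,3,2,0,6,5,4,3,1,2,3,4,7,6,5,4,3,1], [⟨144,6,137,1,1⟩, ⟨137,0,0,0,0⟩, ⟨152,0,0,0,0⟩, ⟨144,2,130,1,2⟩, ⟨144,4,137,1,1⟩, ⟨138,0,131,1,2⟩, ⟨150,0,137,1,1⟩, ⟨144,1,137,1,1⟩]⟩,
  ⟨[7,6,5,4,3,1,2,0,3,2,4,3,1,5,4,3,2,0,6,5,4,3,1,2,3,4,7,6,5,4,3,2], [⟨153,0,0,0,0⟩, ⟨152,0,137,2,1⟩, ⟨137,0,0,0,0⟩, ⟨145,5,130,2,2⟩, ⟨145,4,137,2,1⟩, ⟨139,0,131,2,2⟩, ⟨151,0,137,2,1⟩, ⟨145,1,137,2,1⟩]⟩,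
  ⟨[7,6,5,4,3,1,2,0,3,2,4,3,1,5,4,3,2,0,6,5,4,3,1,2,3,7,6,5,4,3,1,2], [⟨154,0,0,0,0⟩, ⟨139,0,131,2,2⟩, ⟨138,0,0,0,0⟩, ⟨155,0,0,0,0⟩, ⟨140,0,132,2,2⟩, ⟨152,0,138,2,1⟩, ⟨146,3,138,2,1⟩, ⟨146,1,138,2,1⟩]⟩,
  ⟨[7,6,5,4,3,1,2,0,3,2,4,3,1,5,4,3,2,0,6,5,4,3,1,2,3,7,6,5,4,3,2,0], [⟨139,0,0,0,0⟩, ⟨154,0,139,0,1⟩, ⟨147,6,131,0,2⟩, ⟨147,5,139,0,1⟩, ⟨141,0,133,0,2⟩, ⟨153,0,139,0,1⟩, ⟨147,3,139,0,1⟩, ⟨147,1,139,0,1⟩]⟩,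
  ⟨[7,6,5,4,3,1,2,0,3,2,4,3,1,5,4,3,2,0,6,5,4,3,1,2,7,6,5,4,3,1,2,0], [⟨140,0,0,0,0⟩, ⟨141,0,133,0,2⟩, ⟨148,6,132,0,2⟩, ⟨148,7,140,0,1⟩, ⟨154,0,140,0,1⟩, ⟨148,4,140,0,1⟩, ⟨148,3,140,0,1⟩, ⟨148,1,140,0,1⟩]⟩,
  ⟨[7,6,5,4,3,1,2,0,3,2,4,3,1,5,4,3,2,0,6,5,4,3,1,2,3,4,5,6,7,6,5,4,3], [⟨149,6,142,3,1⟩, ⟨156,0,0,0,0⟩, ⟨157,0,0,0,0⟩, ⟨142,0,0,0,0⟩, ⟨149,4,135,3,2⟩, ⟨149,3,142,3,1⟩, ⟨149,1,142,3,1⟩, ⟨143,0,136,3,2⟩]⟩,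
  ⟨[7,6,5,4,3,1,2,0,3,2,4,3,1,5,4,3,2,0,6,5,4,3,1,2,3,4,5,7,6,5,4,3,1], [⟨150,6,143,1,1⟩, ⟨143,0,0,0,0⟩, ⟨158,0,0,0,0⟩, ⟨150,2,136,1,2⟩, ⟨150,4,143,1,1⟩, ⟨150,3,143,1,1⟩, ⟨144,0,137,1,2⟩, ⟨156,0,143,1,1⟩]⟩,
  ⟨[7,6,5,4,3,1,2,0,3,2,4,3,1,5,4,3,2,0,6,5,4,3,1,2,3,4,5,7,6,5,4,3,2], [⟨159,0,0,0,0⟩, ⟨158,0,143,2,1⟩, ⟨143,0,0,0,0⟩, ⟨151,5,136,2,2⟩, ⟨151,4,143,2,1⟩, ⟨151,3,143,2,1⟩, ⟨145,0,137,2,2⟩, ⟨157,0,143,2,1⟩]⟩,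
  ⟨[7,6,5,4,3,1,2,0,3,2,4,3,1,5,4,3,2,0,6,5,4,3,1,2,3,4,7,6,5,4,3,1,2], [⟨160,0,0,0,0⟩, ⟨145,0,137,2,2⟩, ⟨144,0,0,0,0⟩, ⟨161,0,0,0,0⟩, ⟨152,4,144,2,1⟩, ⟨146,0,138,2,2⟩, ⟨158,0,144,2,1⟩, ⟨152,1,144,2,1⟩]⟩,
  ⟨[7,6,5,4,3,1,2,0,3,2,4,3,1,5,4,3,2,0,6,5,4,3,1,2,3,4,7,6,5,4,3,2,0], [⟨145,0,0,0,0⟩, ⟨160,0,145,0,1⟩, ⟨153,6,137,0,2⟩, ⟨153,5,145,0,1⟩, ⟨153,4,145,0,1⟩, ⟨147,0,139,0,2⟩, ⟨159,0,145,0,1⟩, ⟨153,1,145,0,1⟩]⟩,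
  ⟨[7,6,5,4,3,1,2,0,3,2,4,3,1,5,4,3,2,0,6,5,4,3,1,2,3,7,6,5,4,3,1,2,0], [⟨146,0,0,0,0⟩, ⟨147,0,139,0,2⟩, ⟨154,6,138,0,2⟩, ⟨162,0,0,0,0⟩, ⟨148,0,140,0,2⟩, ⟨160,0,146,0,1⟩, ⟨154,3,146,0,1⟩, ⟨154,1,146,0,1⟩]⟩,
  ⟨[7,6,5,4,3,1,2,0,3,2,4,3,1,5,4,3,2,0,6,5,4,3,1,2,3,7,6,5,4,3,1,2,3], [⟨162,0,146,3,1⟩, ⟨155,5,139,3,2⟩, ⟨155,2,138,3,2⟩, ⟨146,0,0,0,0⟩, ⟨155,7,140,3,2⟩, ⟨161,0,146,3,1⟩, ⟨155,3,146,3,1⟩, ⟨155,1,146,3,1⟩]⟩,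
  ⟨[7,6,5,4,3,1,2,0,3,2,4,3,1,5,4,3,2,0,6,5,4,3,1,2,3,4,5,6,7,6,5,4,3,1], [⟨156,6,149,1,1⟩, ⟨149,0,0,0,0⟩, ⟨163,0,0,0,0⟩, ⟨156,2,142,1,2⟩, ⟨156,4,149,1,1⟩, ⟨156,3,149,1,1⟩, ⟨156,1,149,1,1⟩, ⟨150,0,143,1,2⟩]⟩,
  ⟨[7,6,5,4,3,1,2,0,3,2,4,3,1,5,4,3,2,0,6,5,4,3,1,2,3,4,5,6,7,6,5,4,3,2], [⟨164,0,0,0,0⟩, ⟨163,0,149,2,1⟩, ⟨149,0,0,0,0⟩, ⟨157,5,142,2,2⟩, ⟨157,4,149,2,1⟩, ⟨157,3,149,2,1⟩, ⟨157,1,149,2,1⟩, ⟨151,0,143,2,2⟩]⟩,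
  ⟨[7,6,5,4,3,1,2,0,3,2,4,3,1,5,4,3,2,0,6,5,4,3,1,2,3,4,5,7,6,5,4,3,1,2], [⟨165,0,0,0,0⟩, ⟨151,0,143,2,2⟩, ⟨150,0,0,0,0⟩, ⟨166,0,0,0,0⟩, ⟨158,4,150,2,1⟩, ⟨158,3,150,2,1⟩, ⟨152,0,144,2,2⟩, ⟨163,0,150,2,1⟩]⟩,
  ⟨[7,6,5,4,3,1,2,0,3,2,4,3,1,5,4,3,2,0,6,5,4,3,1,2,3,4,5,7,6,5,4,3,2,0], [⟨151,0,0,0,0⟩, ⟨165,0,151,0,1⟩, ⟨159,6,143,0,2⟩, ⟨159,5,151,0,1⟩, ⟨159,4,151,0,1⟩, ⟨159,3,151,0,1⟩, ⟨153,0,145,0,2⟩, ⟨164,0,151,0,1⟩]⟩,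
  ⟨[7,6,5,4,3,1,2,0,3,2,4,3,1,5,4,3,2,0,6,5,4,3,1,2,3,4,7,6,5,4,3,1,2,0], [⟨152,0,0,0,0⟩, ⟨153,0,145,0,2⟩, ⟨160,6,144,0,2⟩, ⟨167,0,0,0,0⟩, ⟨160,4,152,0,1⟩, ⟨154,0,146,0,2⟩, ⟨165,0,152,0,1⟩, ⟨160,1,152,0,1⟩]⟩,
  ⟨[7,6,5,4,3,1,2,0,3,2,4,3,1,5,4,3,2,0,6,5,4,3,1,2,3,4,7,6,5,4,3,1,2,3], [⟨167,0,152,3,1⟩, ⟨161,5,145,3,2⟩, ⟨161,2,144,3,2⟩, ⟨152,0,0,0,0⟩, ⟨168,0,0,0,0⟩, ⟨155,0,146,3,2⟩, ⟨166,0,152,3,1⟩, ⟨161,1,152,3,1⟩]⟩,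
  ⟨[7,6,5,4,3,1,2,0,3,2,4,3,1,5,4,3,2,0,6,5,4,3,1,2,3,7,6,5,4,3,1,2,0,3], [⟨155,0,146,3,2⟩, ⟨162,5,147,3,2⟩, ⟨169,0,0,0,0⟩, ⟨154,0,0,0,0⟩, ⟨162,7,148,3,2⟩, ⟨167,0,154,3,1⟩, ⟨162,3,154,3,1⟩, ⟨162,1,154,3,1⟩]⟩,
  ⟨[7,6,5,4,3,1,2,0,3,2,4,3,1,5,4,3,2,0,6,5,4,3,1,2,3,4,5,6,7,6,5,4,3,1,2], [⟨170,0,0,0,0⟩, ⟨157,0,149,2,2⟩, ⟨156,0,0,0,0⟩, ⟨171,0,0,0,0⟩, ⟨163,4,156,2,1⟩, ⟨163,3,156,2,1⟩, ⟨163,1,156,2,1⟩, ⟨158,0,150,2,2⟩]⟩,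
  ⟨[7,6,5,4,3,1,2,0,3,2,4,3,1,5,4,3,2,0,6,5,4,3,1,2,3,4,5,6,7,6,5,4,3,2,0], [⟨157,0,0,0,0⟩, ⟨170,0,157,0,1⟩, ⟨164,6,149,0,2⟩, ⟨164,5,157,0,1⟩, ⟨164,4,157,0,1⟩, ⟨164,3,157,0,1⟩, ⟨164,1,157,0,1⟩, ⟨159,0,151,0,2⟩]⟩,
  ⟨[7,6,5,4,3,1,2,0,3,2,4,3,1,5,4,3,2,0,6,5,4,3,1,2,3,4,5,7,6,5,4,3,1,2,0], [⟨158,0,0,0,0⟩, ⟨159,0,151,0,2⟩, ⟨165,6,150,0,2⟩, ⟨172,0,0,0,0⟩, ⟨165,4,158,0,1⟩, ⟨165,3,158,0,1⟩, ⟨160,0,152,0,2⟩, ⟨170,0,158,0,1⟩]⟩,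
  ⟨[7,6,5,4,3,1,2,0,3,2,4,3,1,5,4,3,2,0,6,5,4,3,1,2,3,4,5,7,6,5,4,3,1,2,3], [⟨172,0,158,3,1⟩, ⟨166,5,151,3,2⟩, ⟨166,2,150,3,2⟩, ⟨158,0,0,0,0⟩, ⟨173,0,0,0,0⟩, ⟨166,3,158,3,1⟩, ⟨161,0,152,3,2⟩, ⟨171,0,158,3,1⟩]⟩,
  ⟨[7,6,5,4,3,1,2,0,3,2,4,3,1,5,4,3,2,0,6,5,4,3,1,2,3,4,7,6,5,4,3,1,2,0,3], [⟨161,0,152,3,2⟩, ⟨167,5,153,3,2⟩, ⟨174,0,0,0,0⟩, ⟨160,0,0,0,0⟩, ⟨175,0,0,0,0⟩, ⟨162,0,154,3,2⟩, ⟨172,0,160,3,1⟩, ⟨167,1,160,3,1⟩]⟩,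
  ⟨[7,6,5,4,3,1,2,0,3,2,4,3,1,5,4,3,2,0,6,5,4,3,1,2,3,4,7,6,5,4,3,1,2,3,4], [⟨175,0,161,4,1⟩, ⟨168,5,161,4,1⟩, ⟨168,2,161,4,1⟩, ⟨168,4,152,4,2⟩, ⟨161,0,0,0,0⟩, ⟨168,7,155,4,2⟩, ⟨173,0,161,4,1⟩, ⟨168,1,161,4,1⟩]⟩,
  ⟨[7,6,5,4,3,1,2,0,3,2,4,3,1,5,4,3,2,0,6,5,4,3,1,2,3,7,6,5,4,3,1,2,0,3,2], [⟨169,2,155,2,2⟩, ⟨169,5,162,2,1⟩, ⟨162,0,0,0,0⟩, ⟨169,6,154,2,2⟩, ⟨169,7,162,2,1⟩, ⟨174,0,162,2,1⟩, ⟨169,3,162,2,1⟩, ⟨169,1,162,2,1⟩]⟩,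
  ⟨[7,6,5,4,3,1,2,0,3,2,4,3,1,5,4,3,2,0,6,5,4,3,1,2,3,4,5,6,7,6,5,4,3,1,2,0], [⟨163,0,0,0,0⟩, ⟨164,0,157,0,2⟩, ⟨170,6,156,0,2⟩, ⟨176,0,0,0,0⟩, ⟨170,4,163,0,1⟩, ⟨170,3,163,0,1⟩, ⟨170,1,163,0,1⟩, ⟨165,0,158,0,2⟩]⟩,
  ⟨[7,6,5,4,3,1,2,0,3,2,4,3,1,5,4,3,2,0,6,5,4,3,1,2,3,4,5,6,7,6,5,4,3,1,2,3], [⟨176,0,163,3,1⟩, ⟨171,5,157,3,2⟩, ⟨171,2,156,3,2⟩, ⟨163,0,0,0,0⟩, ⟨177,0,0,0,0⟩, ⟨171,3,163,3,1⟩, ⟨171,1,163,3,1⟩, ⟨166,0,158,3,2⟩]⟩,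
  ⟨[7,6,5,4,3,1,2,0,3,2,4,3,1,5,4,3,2,0,6,5,4,3,1,2,3,4,5,7,6,5,4,3,1,2,0,3], [⟨166,0,158,3,2⟩, ⟨172,5,159,3,2⟩, ⟨178,0,0,0,0⟩, ⟨165,0,0,0,0⟩, ⟨179,0,0,0,0⟩, ⟨172,3,165,3,1⟩, ⟨167,0,160,3,2⟩, ⟨176,0,165,3,1⟩]⟩,
  ⟨[7,6,5,4,3,1,2,0,3,2,4,3,1,5,4,3,2,0,6,5,4,3,1,2,3,4,5,7,6,5,4,3,1,2,3,4], [⟨179,0,166,4,1⟩, ⟨173,5,166,4,1⟩, ⟨173,2,166,4,1⟩, ⟨173,4,158,4,2⟩, ⟨166,0,0,0,0⟩, ⟨180,0,0,0,0⟩, ⟨168,0,161,4,2⟩, ⟨177,0,166,4,1⟩]⟩,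
  ⟨[7,6,5,4,3,1,2,0,3,2,4,3,1,5,4,3,2,0,6,5,4,3,1,2,3,4,7,6,5,4,3,1,2,0,3,2], [⟨174,2,161,2,2⟩, ⟨174,5,167,2,1⟩, ⟨167,0,0,0,0⟩, ⟨174,6,160,2,2⟩, ⟨181,0,0,0,0⟩, ⟨169,0,162,2,2⟩, ⟨178,0,167,2,1⟩, ⟨174,1,167,2,1⟩]⟩,
  ⟨[7,6,5,4,3,1,2,0,3,2,4,3,1,5,4,3,2,0,6,5,4,3,1,2,3,4,7,6,5,4,3,1,2,0,3,4], [⟨168,0,161,4,2⟩, ⟨175,5,167,4,1⟩, ⟨181,0,167,4,1⟩, ⟨175,4,160,4,2⟩, ⟨167,0,0,0,0⟩, ⟨175,7,162,4,2⟩, ⟨179,0,167,4,1⟩, ⟨175,1,167,4,1⟩]⟩,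
  ⟨[7,6,5,4,3,1,2,0,3,2,4,3,1,5,4,3,2,0,6,5,4,3,1,2,3,4,5,6,7,6,5,4,3,1,2,0,3], [⟨171,0,163,3,2⟩, ⟨176,5,164,3,2⟩, ⟨182,0,0,0,0⟩, ⟨170,0,0,0,0⟩, ⟨183,0,0,0,0⟩, ⟨176,3,170,3,1⟩, ⟨176,1,170,3,1⟩, ⟨172,0,165,3,2⟩]⟩,
  ⟨[7,6,5,4,3,1,2,0,3,2,4,3,1,5,4,3,2,0,6,5,4,3,1,2,3,4,5,6,7,6,5,4,3,1,2,3,4], [⟨183,0,171,4,1⟩, ⟨177,5,171,4,1⟩, ⟨177,2,171,4,1⟩, ⟨177,4,163,4,2⟩, ⟨171,0,0,0,0⟩, ⟨184,0,0,0,0⟩, ⟨177,1,171,4,1⟩, ⟨173,0,166,4,2⟩]⟩,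
  ⟨[7,6,5,4,3,1,2,0,3,2,4,3,1,5,4,3,2,0,6,5,4,3,1,2,3,4,5,7,6,5,4,3,1,2,0,3,2], [⟨178,2,166,2,2⟩, ⟨178,5,172,2,1⟩, ⟨172,0,0,0,0⟩, ⟨178,6,165,2,2⟩, ⟨185,0,0,0,0⟩, ⟨178,3,172,2,1⟩, ⟨174,0,167,2,2⟩, ⟨182,0,172,2,1⟩]⟩,
  ⟨[7,6,5,4,3,1,2,0,3,2,4,3,1,5,4,3,2,0,6,5,4,3,1,2,3,4,5,7,6,5,4,3,1,2,0,3,4], [⟨173,0,166,4,2⟩, ⟨179,5,172,4,1⟩, ⟨185,0,172,4,1⟩, ⟨179,4,165,4,2⟩, ⟨172,0,0,0,0⟩, ⟨186,0,0,0,0⟩, ⟨175,0,167,4,2⟩, ⟨183,0,172,4,1⟩]⟩,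
  ⟨[7,6,5,4,3,1,2,0,3,2,4,3,1,5,4,3,2,0,6,5,4,3,1,2,3,4,5,7,6,5,4,3,1,2,3,4,5], [⟨186,0,173,5,1⟩, ⟨180,5,173,5,1⟩, ⟨180,2,173,5,1⟩, ⟨180,4,173,5,1⟩, ⟨180,3,166,5,2⟩, ⟨173,0,0,0,0⟩, ⟨180,7,168,5,2⟩, ⟨184,0,173,5,1⟩]⟩,
  ⟨[7,6,5,4,3,1,2,0,3,2,4,3,1,5,4,3,2,0,6,5,4,3,1,2,3,4,7,6,5,4,3,1,2,0,3,2,4], [⟨181,2,174,4,1⟩, ⟨181,5,174,4,1⟩, ⟨175,0,167,4,2⟩, ⟨187,0,0,0,0⟩, ⟨174,0,0,0,0⟩, ⟨181,7,169,4,2⟩, ⟨185,0,174,4,1⟩, ⟨181,1,174,4,1⟩]⟩,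
  ⟨[7,6,5,4,3,1,2,0,3,2,4,3,1,5,4,3,2,0,6,5,4,3,1,2,3,4,5,6,7,6,5,4,3,1,2,0,3,2], [⟨182,2,171,2,2⟩, ⟨182,5,176,2,1⟩, ⟨176,0,0,0,0⟩, ⟨182,6,170,2,2⟩, ⟨188,0,0,0,0⟩, ⟨182,3,176,2,1⟩, ⟨182,1,176,2,1⟩, ⟨178,0,172,2,2⟩]⟩,
  ⟨[7,6,5,4,3,1,2,0,3,2,4,3,1,5,4,3,2,0,6,5,4,3,1,2,3,4,5,6,7,6,5,4,3,1,2,0,3,4], [⟨177,0,171,4,2⟩, ⟨183,5,176,4,1⟩, ⟨188,0,176,4,1⟩, ⟨183,4,170,4,2⟩, ⟨176,0,0,0,0⟩, ⟨189,0,0,0,0⟩, ⟨183,1,176,4,1⟩, ⟨179,0,172,4,2⟩]⟩,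
  ⟨[7,6,5,4,3,1,2,0,3,2,4,3,1,5,4,3,2,0,6,5,4,3,1,2,3,4,5,6,7,6,5,4,3,1,2,3,4,5], [⟨189,0,177,5,1⟩, ⟨184,5,177,5,1⟩, ⟨184,2,177,5,1⟩, ⟨184,4,177,5,1⟩, ⟨184,3,171,5,2⟩, ⟨177,0,0,0,0⟩, ⟨190,0,0,0,0⟩, ⟨180,0,173,5,2⟩]⟩,
  ⟨[7,6,5,4,3,1,2,0,3,2,4,3,1,5,4,3,2,0,6,5,4,3,1,2,3,4,5,7,6,5,4,3,1,2,0,3,2,4], [⟨185,2,178,4,1⟩, ⟨185,5,178,4,1⟩, ⟨179,0,172,4,2⟩, ⟨191,0,0,0,0⟩, ⟨178,0,0,0,0⟩, ⟨192,0,0,0,0⟩, ⟨181,0,174,4,2⟩, ⟨188,0,178,4,1⟩]⟩,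
  ⟨[7,6,5,4,3,1,2,0,3,2,4,3,1,5,4,3,2,0,6,5,4,3,1,2,3,4,5,7,6,5,4,3,1,2,0,3,4,5], [⟨180,0,173,5,2⟩, ⟨186,5,179,5,1⟩, ⟨192,0,179,5,1⟩, ⟨186,4,179,5,1⟩, ⟨186,3,172,5,2⟩, ⟨179,0,0,0,0⟩, ⟨186,7,175,5,2⟩, ⟨189,0,179,5,1⟩]⟩,
  ⟨[7,6,5,4,3,1,2,0,3,2,4,3,1,5,4,3,2,0,6,5,4,3,1,2,3,4,7,6,5,4,3,1,2,0,3,2,4,3], [⟨187,2,181,3,1⟩, ⟨193,0,0,0,0⟩, ⟨187,4,175,3,2⟩, ⟨181,0,0,0,0⟩, ⟨187,6,174,3,2⟩, ⟨187,7,181,3,1⟩, ⟨191,0,181,3,1⟩, ⟨187,1,181,3,1⟩]⟩,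
  ⟨[7,6,5,4,3,1,2,0,3,2,4,3,1,5,4,3,2,0,6,5,4,3,1,2,3,4,5,6,7,6,5,4,3,1,2,0,3,2,4], [⟨188,2,182,4,1⟩, ⟨188,5,182,4,1⟩, ⟨183,0,176,4,2⟩, ⟨194,0,0,0,0⟩, ⟨182,0,0,0,0⟩, ⟨195,0,0,0,0⟩, ⟨188,1,182,4,1⟩, ⟨185,0,178,4,2⟩]⟩,
  ⟨[7,6,5,4,3,1,2,0,3,2,4,3,1,5,4,3,2,0,6,5,4,3,1,2,3,4,5,6,7,6,5,4,3,1,2,0,3,4,5], [⟨184,0,177,5,2⟩, ⟨189,5,183,5,1⟩, ⟨195,0,183,5,1⟩, ⟨189,4,183,5,1⟩, ⟨189,3,176,5,2⟩, ⟨183,0,0,0,0⟩, ⟨196,0,0,0,0⟩, ⟨186,0,179,5,2⟩]⟩,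
  ⟨[7,6,5,4,3,1,2,0,3,2,4,3,1,5,4,3,2,0,6,5,4,3,1,2,3,4,5,6,7,6,5,4,3,1,2,3,4,5,6], [⟨196,0,184,6,1⟩, ⟨190,5,184,6,1⟩, ⟨190,2,184,6,1⟩, ⟨190,4,184,6,1⟩, ⟨190,3,184,6,1⟩, ⟨190,1,177,6,2⟩, ⟨184,0,0,0,0⟩, ⟨190,7,180,6,2⟩]⟩,
  ⟨[7,6,5,4,3,1,2,0,3,2,4,3,1,5,4,3,2,0,6,5,4,3,1,2,3,4,5,7,6,5,4,3,1,2,0,3,2,4,3], [⟨191,2,185,3,1⟩, ⟨197,0,0,0,0⟩, ⟨191,4,179,3,2⟩, ⟨185,0,0,0,0⟩, ⟨191,6,178,3,2⟩, ⟨198,0,0,0,0⟩, ⟨187,0,181,3,2⟩, ⟨194,0,185,3,1⟩]⟩,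
  ⟨[7,6,5,4,3,1,2,0,3,2,4,3,1,5,4,3,2,0,6,5,4,3,1,2,3,4,5,7,6,5,4,3,1,2,0,3,2,4,5], [⟨192,2,185,5,1⟩, ⟨192,5,185,5,1⟩, ⟨186,0,179,5,2⟩, ⟨198,0,185,5,1⟩, ⟨192,3,178,5,2⟩, ⟨185,0,0,0,0⟩, ⟨192,7,181,5,2⟩, ⟨195,0,185,5,1⟩]⟩,
  ⟨[7,6,5,4,3,1,2,0,3,2,4,3,1,5,4,3,2,0,6,5,4,3,1,2,3,4,7,6,5,4,3,1,2,0,3,2,4,3,1], [⟨193,2,187,1,1⟩, ⟨187,0,0,0,0⟩, ⟨193,4,187,1,1⟩, ⟨193,5,181,1,2⟩, ⟨193,6,187,1,1⟩, ⟨193,7,187,1,1⟩, ⟨197,0,187,1,1⟩, ⟨193,1,187,1,1⟩]⟩,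
  ⟨[7,6,5,4,3,1,2,0,3,2,4,3,1,5,4,3,2,0,6,5,4,3,1,2,3,4,5,6,7,6,5,4,3,1,2,0,3,2,4,3], [⟨194,2,188,3,1⟩, ⟨199,0,0,0,0⟩, ⟨194,4,183,3,2⟩, ⟨188,0,0,0,0⟩, ⟨194,6,182,3,2⟩, ⟨200,0,0,0,0⟩, ⟨194,1,188,3,1⟩, ⟨191,0,185,3,2⟩]⟩,
  ⟨[7,6,5,4,3,1,2,0,3,2,4,3,1,5,4,3,2,0,6,5,4,3,1,2,3,4,5,6,7,6,5,4,3,1,2,0,3,2,4,5], [⟨195,2,188,5,1⟩, ⟨195,5,188,5,1⟩, ⟨189,0,183,5,2⟩, ⟨200,0,188,5,1⟩, ⟨195,3,182,5,2⟩, ⟨188,0,0,0,0⟩, ⟨201,0,0,0,0⟩, ⟨192,0,185,5,2⟩]⟩,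
  ⟨[7,6,5,4,3,1,2,0,3,2,4,3,1,5,4,3,2,0,6,5,4,3,1,2,3,4,5,6,7,6,5,4,3,1,2,0,3,4,5,6], [⟨190,0,184,6,2⟩, ⟨196,5,189,6,1⟩, ⟨201,0,189,6,1⟩, ⟨196,4,189,6,1⟩, ⟨196,3,189,6,1⟩, ⟨196,1,183,6,2⟩, ⟨189,0,0,0,0⟩, ⟨196,7,186,6,2⟩]⟩,
  ⟨[7,6,5,4,3,1,2,0,3,2,4,3,1,5,4,3,2,0,6,5,4,3,1,2,3,4,5,7,6,5,4,3,1,2,0,3,2,4,3,1], [⟨197,2,191,1,1⟩, ⟨191,0,0,0,0⟩, ⟨197,4,191,1,1⟩, ⟨197,5,185,1,2⟩, ⟨197,6,191,1,1⟩, ⟨202,0,0,0,0⟩, ⟨193,0,187,1,2⟩, ⟨199,0,191,1,1⟩]⟩,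
  ⟨[7,6,5,4,3,1,2,0,3,2,4,3,1,5,4,3,2,0,6,5,4,3,1,2,3,4,5,7,6,5,4,3,1,2,0,3,2,4,3,5], [⟨198,2,191,5,1⟩, ⟨202,0,191,5,1⟩, ⟨198,4,191,5,1⟩, ⟨192,0,185,5,2⟩, ⟨203,0,0,0,0⟩, ⟨191,0,0,0,0⟩, ⟨198,7,187,5,2⟩, ⟨200,0,191,5,1⟩]⟩,
  ⟨[7,6,5,4,3,1,2,0,3,2,4,3,1,5,4,3,2,0,6,5,4,3,1,2,3,4,5,6,7,6,5,4,3,1,2,0,3,2,4,3,1], [⟨199,2,194,1,1⟩, ⟨194,0,0,0,0⟩, ⟨199,4,194,1,1⟩, ⟨199,5,188,1,2⟩, ⟨199,6,194,1,1⟩, ⟨204,0,0,0,0⟩, ⟨199,1,194,1,1⟩, ⟨197,0,191,1,2⟩]⟩,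
  ⟨[7,6,5,4,3,1,2,0,3,2,4,3,1,5,4,3,2,0,6,5,4,3,1,2,3,4,5,6,7,6,5,4,3,1,2,0,3,2,4,3,5], [⟨200,2,194,5,1⟩, ⟨204,0,194,5,1⟩, ⟨200,4,194,5,1⟩, ⟨195,0,188,5,2⟩, ⟨205,0,0,0,0⟩, ⟨194,0,0,0,0⟩, ⟨206,0,0,0,0⟩, ⟨198,0,191,5,2⟩]⟩,
  ⟨[7,6,5,4,3,1,2,0,3,2,4,3,1,5,4,3,2,0,6,5,4,3,1,2,3,4,5,6,7,6,5,4,3,1,2,0,3,2,4,5,6], [⟨201,2,195,6,1⟩, ⟨201,5,195,6,1⟩, ⟨196,0,189,6,2⟩, ⟨206,0,195,6,1⟩, ⟨201,3,195,6,1⟩, ⟨201,1,188,6,2⟩, ⟨195,0,0,0,0⟩, ⟨201,7,192,6,2⟩]⟩,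
  ⟨[7,6,5,4,3,1,2,0,3,2,4,3,1,5,4,3,2,0,6,5,4,3,1,2,3,4,5,7,6,5,4,3,1,2,0,3,2,4,3,1,5], [⟨202,2,197,5,1⟩, ⟨198,0,191,5,2⟩, ⟨202,4,197,5,1⟩, ⟨202,5,197,5,1⟩, ⟨207,0,0,0,0⟩, ⟨197,0,0,0,0⟩, ⟨202,7,193,5,2⟩, ⟨204,0,197,5,1⟩]⟩,
  ⟨[7,6,5,4,3,1,2,0,3,2,4,3,1,5,4,3,2,0,6,5,4,3,1,2,3,4,5,7,6,5,4,3,1,2,0,3,2,4,3,5,4], [⟨203,2,198,4,1⟩, ⟨207,0,198,4,1⟩, ⟨203,4,198,4,1⟩, ⟨203,3,192,4,2⟩, ⟨198,0,0,0,0⟩, ⟨203,6,191,4,2⟩, ⟨203,7,198,4,1⟩, ⟨205,0,198,4,1⟩]⟩,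
  ⟨[7,6,5,4,3,1,2,0,3,2,4,3,1,5,4,3,2,0,6,5,4,3,1,2,3,4,5,6,7,6,5,4,3,1,2,0,3,2,4,3,1,5], [⟨204,2,199,5,1⟩, ⟨200,0,194,5,2⟩, ⟨204,4,199,5,1⟩, ⟨204,5,199,5,1⟩, ⟨208,0,0,0,0⟩, ⟨199,0,0,0,0⟩, ⟨209,0,0,0,0⟩, ⟨202,0,197,5,2⟩]⟩,
  ⟨[7,6,5,4,3,1,2,0,3,2,4,3,1,5,4,3,2,0,6,5,4,3,1,2,3,4,5,6,7,6,5,4,3,1,2,0,3,2,4,3,5,4], [⟨205,2,200,4,1⟩, ⟨208,0,200,4,1⟩, ⟨205,4,200,4,1⟩, ⟨205,3,195,4,2⟩, ⟨200,0,0,0,0⟩, ⟨205,6,194,4,2⟩, ⟨210,0,0,0,0⟩, ⟨203,0,198,4,2⟩]⟩,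
  ⟨[7,6,5,4,3,1,2,0,3,2,4,3,1,5,4,3,2,0,6,5,4,3,1,2,3,4,5,6,7,6,5,4,3,1,2,0,3,2,4,3,5,6], [⟨206,2,200,6,1⟩, ⟨209,0,200,6,1⟩, ⟨206,4,200,6,1⟩, ⟨201,0,195,6,2⟩, ⟨210,0,200,6,1⟩, ⟨206,1,194,6,2⟩, ⟨200,0,0,0,0⟩, ⟨206,7,198,6,2⟩]⟩,
  ⟨[7,6,5,4,3,1,2,0,3,2,4,3,1,5,4,3,2,0,6,5,4,3,1,2,3,4,5,7,6,5,4,3,1,2,0,3,2,4,3,1,5,4], [⟨207,2,202,4,1⟩, ⟨203,0,198,4,2⟩, ⟨207,4,202,4,1⟩, ⟨211,0,0,0,0⟩, ⟨202,0,0,0,0⟩, ⟨207,6,197,4,2⟩, ⟨207,7,202,4,1⟩, ⟨208,0,202,4,1⟩]⟩,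
  ⟨[7,6,5,4,3,1,2,0,3,2,4,3,1,5,4,3,2,0,6,5,4,3,1,2,3,4,5,6,7,6,5,4,3,1,2,0,3,2,4,3,1,5,4], [⟨208,2,204,4,1⟩, ⟨205,0,200,4,2⟩, ⟨208,4,204,4,1⟩, ⟨212,0,0,0,0⟩, ⟨204,0,0,0,0⟩, ⟨208,6,199,4,2⟩, ⟨213,0,0,0,0⟩, ⟨207,0,202,4,2⟩]⟩,
  ⟨[7,6,5,4,3,1,2,0,3,2,4,3,1,5,4,3,2,0,6,5,4,3,1,2,3,4,5,6,7,6,5,4,3,1,2,0,3,2,4,3,1,5,6], [⟨209,2,204,6,1⟩, ⟨206,0,200,6,2⟩, ⟨209,4,204,6,1⟩, ⟨209,5,204,6,1⟩, ⟨213,0,204,6,1⟩, ⟨209,1,199,6,2⟩, ⟨204,0,0,0,0⟩, ⟨209,7,202,6,2⟩]⟩,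
  ⟨[7,6,5,4,3,1,2,0,3,2,4,3,1,5,4,3,2,0,6,5,4,3,1,2,3,4,5,6,7,6,5,4,3,1,2,0,3,2,4,3,5,4,6], [⟨210,2,205,6,1⟩, ⟨213,0,205,6,1⟩, ⟨210,4,205,6,1⟩, ⟨210,3,205,6,1⟩, ⟨206,0,200,6,2⟩, ⟨214,0,0,0,0⟩, ⟨205,0,0,0,0⟩, ⟨210,7,203,6,2⟩]⟩,
  ⟨[7,6,5,4,3,1,2,0,3,2,4,3,1,5,4,3,2,0,6,5,4,3,1,2,3,4,5,7,6,5,4,3,1,2,0,3,2,4,3,1,5,4,3], [⟨211,2,207,3,1⟩, ⟨211,3,203,3,2⟩, ⟨215,0,0,0,0⟩, ⟨207,0,0,0,0⟩, ⟨211,5,202,3,2⟩, ⟨211,6,207,3,1⟩, ⟨211,7,207,3,1⟩, ⟨212,0,207,3,1⟩]⟩,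
  ⟨[7,6,5,4,3,1,2,0,3,2,4,3,1,5,4,3,2,0,6,5,4,3,1,2,3,4,5,6,7,6,5,4,3,1,2,0,3,2,4,3,1,5,4,3], [⟨212,2,208,3,1⟩, ⟨212,3,205,3,2⟩, ⟨216,0,0,0,0⟩, ⟨208,0,0,0,0⟩, ⟨212,5,204,3,2⟩, ⟨212,6,208,3,1⟩, ⟨217,0,0,0,0⟩, ⟨211,0,207,3,2⟩]⟩,
  ⟨[7,6,5,4,3,1,2,0,3,2,4,3,1,5,4,3,2,0,6,5,4,3,1,2,3,4,5,6,7,6,5,4,3,1,2,0,3,2,4,3,1,5,4,6], [⟨213,2,208,6,1⟩, ⟨210,0,205,6,2⟩, ⟨213,4,208,6,1⟩, ⟨217,0,208,6,1⟩, ⟨209,0,204,6,2⟩, ⟨218,0,0,0,0⟩, ⟨208,0,0,0,0⟩, ⟨213,7,207,6,2⟩]⟩,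
  ⟨[7,6,5,4,3,1,2,0,3,2,4,3,1,5,4,3,2,0,6,5,4,3,1,2,3,4,5,6,7,6,5,4,3,1,2,0,3,2,4,3,5,4,6,5], [⟨214,2,210,5,1⟩, ⟨218,0,210,5,1⟩, ⟨214,4,210,5,1⟩, ⟨214,3,210,5,1⟩, ⟨214,1,206,5,2⟩, ⟨210,0,0,0,0⟩, ⟨214,6,205,5,2⟩, ⟨214,7,210,5,1⟩]⟩,
  ⟨[7,6,5,4,3,1,2,0,3,2,4,3,1,5,4,3,2,0,6,5,4,3,1,2,3,4,5,7,6,5,4,3,1,2,0,3,2,4,3,1,5,4,3,2], [⟨219,0,0,0,0⟩, ⟨215,3,211,2,1⟩, ⟨211,0,0,0,0⟩, ⟨215,4,207,2,2⟩, ⟨215,5,211,2,1⟩, ⟨215,6,211,2,1⟩, ⟨215,7,211,2,1⟩, ⟨216,0,211,2,1⟩]⟩,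
  ⟨[7,6,5,4,3,1,2,0,3,2,4,3,1,5,4,3,2,0,6,5,4,3,1,2,3,4,5,6,7,6,5,4,3,1,2,0,3,2,4,3,1,5,4,3,2], [⟨220,0,0,0,0⟩, ⟨216,3,212,2,1⟩, ⟨212,0,0,0,0⟩, ⟨216,4,208,2,2⟩, ⟨216,5,212,2,1⟩, ⟨216,6,212,2,1⟩, ⟨221,0,0,0,0⟩, ⟨215,0,211,2,2⟩]⟩,
  ⟨[7,6,5,4,3,1,2,0,3,2,4,3,1,5,4,3,2,0,6,5,4,3,1,2,3,4,5,6,7,6,5,4,3,1,2,0,3,2,4,3,1,5,4,3,6], [⟨217,2,212,6,1⟩, ⟨217,3,212,6,1⟩, ⟨221,0,212,6,1⟩, ⟨213,0,208,6,2⟩, ⟨217,5,212,6,1⟩, ⟨222,0,0,0,0⟩, ⟨212,0,0,0,0⟩, ⟨217,7,211,6,2⟩]⟩,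
  ⟨[7,6,5,4,3,1,2,0,3,2,4,3,1,5,4,3,2,0,6,5,4,3,1,2,3,4,5,6,7,6,5,4,3,1,2,0,3,2,4,3,1,5,4,6,5], [⟨218,2,213,5,1⟩, ⟨214,0,210,5,2⟩, ⟨218,4,213,5,1⟩, ⟨222,0,213,5,1⟩, ⟨218,1,209,5,2⟩, ⟨213,0,0,0,0⟩, ⟨218,6,208,5,2⟩, ⟨218,7,213,5,1⟩]⟩,
  ⟨[7,6,5,4,3,1,2,0,3,2,4,3,1,5,4,3,2,0,6,5,4,3,1,2,3,4,5,7,6,5,4,3,1,2,0,3,2,4,3,1,5,4,3,2,0], [⟨215,0,0,0,0⟩, ⟨219,3,215,0,1⟩, ⟨219,2,211,0,2⟩, ⟨219,4,215,0,1⟩, ⟨219,5,215,0,1⟩, ⟨219,6,215,0,1⟩, ⟨219,7,215,0,1⟩, ⟨220,0,215,0,1⟩]⟩,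
  ⟨[7,6,5,4,3,1,2,0,3,2,4,3,1,5,4,3,2,0,6,5,4,3,1,2,3,4,5,6,7,6,5,4,3,1,2,0,3,2,4,3,1,5,4,3,2,0], [⟨216,0,0,0,0⟩, ⟨220,3,216,0,1⟩, ⟨220,2,212,0,2⟩, ⟨220,4,216,0,1⟩, ⟨220,5,216,0,1⟩, ⟨220,6,216,0,1⟩, ⟨223,0,0,0,0⟩, ⟨219,0,215,0,2⟩]⟩,
  ⟨[7,6,5,4,3,1,2,0,3,2,4,3,1,5,4,3,2,0,6,5,4,3,1,2,3,4,5,6,7,6,5,4,3,1,2,0,3,2,4,3,1,5,4,3,2,6], [⟨223,0,216,6,1⟩, ⟨221,3,216,6,1⟩, ⟨217,0,212,6,2⟩, ⟨221,4,216,6,1⟩, ⟨221,5,216,6,1⟩, ⟨224,0,0,0,0⟩, ⟨216,0,0,0,0⟩, ⟨221,7,215,6,2⟩]⟩,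
  ⟨[7,6,5,4,3,1,2,0,3,2,4,3,1,5,4,3,2,0,6,5,4,3,1,2,3,4,5,6,7,6,5,4,3,1,2,0,3,2,4,3,1,5,4,3,6,5], [⟨222,2,217,5,1⟩, ⟨222,3,217,5,1⟩, ⟨224,0,217,5,1⟩, ⟨218,0,213,5,2⟩, ⟨225,0,0,0,0⟩, ⟨217,0,0,0,0⟩, ⟨222,6,212,5,2⟩, ⟨222,7,217,5,1⟩]⟩,
  ⟨[7,6,5,4,3,1,2,0,3,2,4,3,1,5,4,3,2,0,6,5,4,3,1,2,3,4,5,6,7,6,5,4,3,1,2,0,3,2,4,3,1,5,4,3,2,0,6], [⟨221,0,216,6,2⟩, ⟨223,3,220,6,1⟩, ⟨223,2,220,6,1⟩, ⟨223,4,220,6,1⟩, ⟨223,5,220,6,1⟩, ⟨226,0,0,0,0⟩, ⟨220,0,0,0,0⟩, ⟨223,7,219,6,2⟩]⟩,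
  ⟨[7,6,5,4,3,1,2,0,3,2,4,3,1,5,4,3,2,0,6,5,4,3,1,2,3,4,5,6,7,6,5,4,3,1,2,0,3,2,4,3,1,5,4,3,2,6,5], [⟨226,0,221,5,1⟩, ⟨224,3,221,5,1⟩, ⟨222,0,217,5,2⟩, ⟨224,4,221,5,1⟩, ⟨227,0,0,0,0⟩, ⟨221,0,0,0,0⟩, ⟨224,6,216,5,2⟩, ⟨224,7,221,5,1⟩]⟩,
  ⟨[7,6,5,4,3,1,2,0,3,2,4,3,1,5,4,3,2,0,6,5,4,3,1,2,3,4,5,6,7,6,5,4,3,1,2,0,3,2,4,3,1,5,4,3,6,5,4], [⟨225,2,222,4,1⟩, ⟨225,3,222,4,1⟩, ⟨227,0,222,4,1⟩, ⟨225,1,218,4,2⟩, ⟨222,0,0,0,0⟩, ⟨225,5,217,4,2⟩, ⟨225,6,222,4,1⟩, ⟨225,7,222,4,1⟩]⟩,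
  ⟨[7,6,5,4,3,1,2,0,3,2,4,3,1,5,4,3,2,0,6,5,4,3,1,2,3,4,5,6,7,6,5,4,3,1,2,0,3,2,4,3,1,5,4,3,2,0,6,5], [⟨224,0,221,5,2⟩, ⟨226,3,223,5,1⟩, ⟨226,2,223,5,1⟩, ⟨226,4,223,5,1⟩, ⟨228,0,0,0,0⟩, ⟨223,0,0,0,0⟩, ⟨226,6,220,5,2⟩, ⟨226,7,223,5,1⟩]⟩,
  ⟨[7,6,5,4,3,1,2,0,3,2,4,3,1,5,4,3,2,0,6,5,4,3,1,2,3,4,5,6,7,6,5,4,3,1,2,0,3,2,4,3,1,5,4,3,2,6,5,4], [⟨228,0,224,4,1⟩, ⟨227,3,224,4,1⟩, ⟨225,0,222,4,2⟩, ⟨229,0,0,0,0⟩, ⟨224,0,0,0,0⟩, ⟨227,5,221,4,2⟩, ⟨227,6,224,4,1⟩, ⟨227,7,224,4,1⟩]⟩,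
  ⟨[7,6,5,4,3,1,2,0,3,2,4,3,1,5,4,3,2,0,6,5,4,3,1,2,3,4,5,6,7,6,5,4,3,1,2,0,3,2,4,3,1,5,4,3,2,0,6,5,4], [⟨227,0,224,4,2⟩, ⟨228,3,226,4,1⟩, ⟨228,2,226,4,1⟩, ⟨230,0,0,0,0⟩, ⟨226,0,0,0,0⟩, ⟨228,5,223,4,2⟩, ⟨228,6,226,4,1⟩, ⟨228,7,226,4,1⟩]⟩,
  ⟨[7,6,5,4,3,1,2,0,3,2,4,3,1,5,4,3,2,0,6,5,4,3,1,2,3,4,5,6,7,6,5,4,3,1,2,0,3,2,4,3,1,5,4,3,2,6,5,4,3], [⟨230,0,227,3,1⟩, ⟨231,0,0,0,0⟩, ⟨229,1,225,3,2⟩, ⟨227,0,0,0,0⟩, ⟨229,4,224,3,2⟩, ⟨229,5,227,3,1⟩, ⟨229,6,227,3,1⟩, ⟨229,7,227,3,1⟩]⟩,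
  ⟨[7,6,5,4,3,1,2,0,3,2,4,3,1,5,4,3,2,0,6,5,4,3,1,2,3,4,5,6,7,6,5,4,3,1,2,0,3,2,4,3,1,5,4,3,2,0,6,5,4,3], [⟨229,0,227,3,2⟩, ⟨232,0,0,0,0⟩, ⟨233,0,0,0,0⟩, ⟨228,0,0,0,0⟩, ⟨230,4,226,3,2⟩, ⟨230,5,228,3,1⟩, ⟨230,6,228,3,1⟩, ⟨230,7,228,3,1⟩]⟩,
  ⟨[7,6,5,4,3,1,2,0,3,2,4,3,1,5,4,3,2,0,6,5,4,3,1,2,3,4,5,6,7,6,5,4,3,1,2,0,3,2,4,3,1,5,4,3,2,6,5,4,3,1], [⟨232,0,229,1,1⟩, ⟨229,0,0,0,0⟩, ⟨231,1,229,1,1⟩, ⟨231,3,227,1,2⟩, ⟨231,4,229,1,1⟩, ⟨231,5,229,1,1⟩, ⟨231,6,229,1,1⟩, ⟨231,7,229,1,1⟩]⟩,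
  ⟨[7,6,5,4,3,1,2,0,3,2,4,3,1,5,4,3,2,0,6,5,4,3,1,2,3,4,5,6,7,6,5,4,3,1,2,0,3,2,4,3,1,5,4,3,2,0,6,5,4,3,1], [⟨231,0,229,1,2⟩, ⟨230,0,0,0,0⟩, ⟨234,0,0,0,0⟩, ⟨232,3,228,1,2⟩, ⟨232,4,230,1,1⟩, ⟨232,5,230,1,1⟩, ⟨232,6,230,1,1⟩, ⟨232,7,230,1,1⟩]⟩,
  ⟨[7,6,5,4,3,1,2,0,3,2,4,3,1,5,4,3,2,0,6,5,4,3,1,2,3,4,5,6,7,6,5,4,3,1,2,0,3,2,4,3,1,5,4,3,2,0,6,5,4,3,2], [⟨233,1,229,2,2⟩, ⟨234,0,230,2,1⟩, ⟨230,0,0,0,0⟩, ⟨233,2,228,2,2⟩, ⟨233,4,230,2,1⟩, ⟨233,5,230,2,1⟩, ⟨233,6,230,2,1⟩, ⟨233,7,230,2,1⟩]⟩,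
  ⟨[7,6,5,4,3,1,2,0,3,2,4,3,1,5,4,3,2,0,6,5,4,3,1,2,3,4,5,6,7,6,5,4,3,1,2,0,3,2,4,3,1,5,4,3,2,0,6,5,4,3,1,2], [⟨234,1,231,2,2⟩, ⟨233,0,230,2,2⟩, ⟨232,0,0,0,0⟩, ⟨235,0,0,0,0⟩, ⟨234,4,232,2,1⟩, ⟨234,5,232,2,1⟩, ⟨234,6,232,2,1⟩, ⟨234,7,232,2,1⟩]⟩,
  ⟨[7,6,5,4,3,1,2,0,3,2,4,3,1,5,4,3,2,0,6,5,4,3,1,2,3,4,5,6,7,6,5,4,3,1,2,0,3,2,4,3,1,5,4,3,2,0,6,5,4,3,1,2,3], [⟨235,1,234,3,1⟩, ⟨235,2,233,3,2⟩, ⟨235,3,232,3,2⟩, ⟨234,0,0,0,0⟩, ⟨236,0,0,0,0⟩, ⟨235,5,234,3,1⟩, ⟨235,6,234,3,1⟩, ⟨235,7,234,3,1⟩]⟩,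
  ⟨[7,6,5,4,3,1,2,0,3,2,4,3,1,5,4,3,2,0,6,5,4,3,1,2,3,4,5,6,7,6,5,4,3,1,2,0,3,2,4,3,1,5,4,3,2,0,6,5,4,3,1,2,3,4], [⟨236,1,235,4,1⟩, ⟨236,2,235,4,1⟩, ⟨236,3,235,4,1⟩, ⟨236,4,234,4,2⟩, ⟨235,0,0,0,0⟩, ⟨237,0,0,0,0⟩, ⟨236,6,235,4,1⟩, ⟨236,7,235,4,1⟩]⟩,
  ⟨[7,6,5,4,3,1,2,0,3,2,4,3,1,5,4,3,2,0,6,5,4,3,1,2,3,4,5,6,7,6,5,4,3,1,2,0,3,2,4,3,1,5,4,3,2,0,6,5,4,3,1,2,3,4,5], [⟨237,1,236,5,1⟩, ⟨237,2,236,5,1⟩, ⟨237,3,236,5,1⟩, ⟨237,4,236,5,1⟩, ⟨237,5,235,5,2⟩, ⟨236,0,0,0,0⟩, ⟨238,0,0,0,0⟩, ⟨237,7,236,5,1⟩]⟩,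
  ⟨[7,6,5,4,3,1,2,0,3,2,4,3,1,5,4,3,2,0,6,5,4,3,1,2,3,4,5,6,7,6,5,4,3,1,2,0,3,2,4,3,1,5,4,3,2,0,6,5,4,3,1,2,3,4,5,6], [⟨238,1,237,6,1⟩, ⟨238,2,237,6,1⟩, ⟨238,3,237,6,1⟩, ⟨238,4,237,6,1⟩, ⟨238,5,237,6,1⟩, ⟨238,6,236,6,2⟩, ⟨237,0,0,0,0⟩, ⟨239,0,0,0,0⟩]⟩,
  ⟨[7,6,5,4,3,1,2,0,3,2,4,3,1,5,4,3,2,0,6,5,4,3,1,2,3,4,5,6,7,6,5,4,3,1,2,0,3,2,4,3,1,5,4,3,2,0,6,5,4,3,1,2,3,4,5,6,7], [⟨239,1,238,7,1⟩, ⟨239,2,238,7,1⟩, ⟨239,3,238,7,1⟩, ⟨239,4,238,7,1⟩, ⟨239,5,238,7,1⟩, ⟨239,6,238,7,1⟩, ⟨239,7,237,7,2⟩, ⟨238,0,0,0,0⟩]⟩]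

/-- Coset table of `E8`. -/
noncomputable def e8Table : Table := [b2Level0, e6Level1, e6Level2, e6Level3, e6Level4, e6Level5, e7Level6, e8Level7]

end Cfsg.Agent.Lib.Coxeter
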